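import Cfsg.Agent.ConstDrop.Semilinear
import Mathlib.GroupTheory.Sylow
import Mathlib.GroupTheory.Subgroup.Centralizer

/-!
The exceptional dimension, phrased inside a group with an elementary abelian Sylow 2-subgroup and
one class of involutions.
-/

set_option autoImplicit false
set_option linter.unusedSectionVars false
set_option linter.style.haveILetI false

namespace CfsgLib.ConstDrop

universe u

/-- All 2-elements square to one. -/
def Elem2 (G : Type u) [Group G] : Prop := ∀ y : G, (∃ a : ℕ, orderOf y = 2 ^ a) → y * y = 1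

/-- All involutions are conjugate. -/
def OneClass (G : Type u) [Group G] : Prop :=
  ∀ x y : G, orderOf x = 2 → orderOf y = 2 → IsConj x y

variable {G : Type u} [Group G] [Finite G]

set_option maxHeartbeats 1000000

theorem Elem2.sq (h : Elem2 G) {H : Subgroup G} (hH : IsPGroup 2 H) {x : G} (hx : x ∈ H) :
    x * x = 1 := by
  haveI : Fact (Nat.Prime 2) := ⟨Nat.prime_two⟩
  obtain ⟨a, ha⟩ := IsPGroup.iff_orderOf.1 hH ⟨x, hx⟩
  exact h x ⟨a, by rwa [Subgroup.orderOf_mk] at ha⟩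

theorem Elem2.comm (h : Elem2 G) {H : Subgroup G} (hH : IsPGroup 2 H) {x y : G} (hx : x ∈ H)
    (hy : y ∈ H) : x * y = y * x := by
  have hi : ∀ z : G, z * z = 1 → z⁻¹ = z := fun z hz => inv_eq_of_mul_eq_one_right hz
  rw [← hi _ (h.sq hH (H.mul_mem hx hy)), mul_inv_rev, hi _ (h.sq hH hx), hi _ (h.sq hH hy)]

theorem Elem2.isMulCommutative (h : Elem2 G) (S : Sylow 2 G) :
    IsMulCommutative (S : Subgroup G) :=
  ⟨⟨fun a b => Subtype.ext (h.comm S.2 a.2 b.2)⟩⟩

theorem Elem2.order (h : Elem2 G) {H : Subgroup G} (hH : IsPGroup 2 H) {x : G} (hx : x ∈ H)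
    (hx1 : x ≠ 1) : orderOf x = 2 :=
  haveI : Fact (Nat.Prime 2) := ⟨Nat.prime_two⟩
  orderOf_eq_prime (by rw [pow_two]; exact h.sq hH hx) hx1

/-- The exceptional dimension. -/
theorem eq_eight_of_local (S : Sylow 2 G) (hel : Elem2 G) (hone : OneClass G)
    (Qs W : Subgroup G) (hQW : Qs ≤ W) (hWS : W ≤ (S : Subgroup G)) (hQ : Qs ≠ ⊥) {n : ℕ}
    (hn : 2 ≤ n) (hW : Nat.card W = Nat.card Qs * 2 ^ n) {w₀ : G} (hw₀ : w₀ ∈ W)
    (hmove : ∀ w ∈ W, w ∉ Qs → ∃ g : G, g ∈ Subgroup.normalizer ((S : Subgroup G) : Set G) ∧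
      (∀ x ∈ Qs, g * x * g⁻¹ = x) ∧ (∀ x ∈ (S : Subgroup G), g * x * g⁻¹ * x⁻¹ ∈ W) ∧
      (g * w₀ * g⁻¹)⁻¹ * w ∈ Qs) :
    Nat.card S = 8 := by
  classical
  haveI : Fact (Nat.Prime 2) := ⟨Nat.prime_two⟩
  haveI hab : IsMulCommutative (S : Subgroup G) := hel.isMulCommutative S
  letI : CommGroup (S : Subgroup G) :=
    { (inferInstance : Group (S : Subgroup G)) with mul_comm := fun a b => hab.is_comm.comm a b }
  set φ := (S : Subgroup G).normalizerMonoidHom with hφdef
  set D := φ.range with hDdef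
  letI : DistribMulAction D (Additive (S : Subgroup G)) :=
    { smul := fun d x => Additive.ofMul ((d : MulAut (S : Subgroup G)) x.toMul)
      one_smul := fun _ => rfl
      mul_smul := fun _ _ _ => rfl
      smul_zero := fun d => congrArg Additive.ofMul (map_one (d : MulAut (S : Subgroup G)))
      smul_add := fun d x y =>
        congrArg Additive.ofMul (map_mul (d : MulAut (S : Subgroup G)) x.toMul y.toMul) }
  haveI : FaithfulSMul D (Additive (S : Subgroup G)) := ⟨fun {a b} h =>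
    Subtype.ext (MulEquiv.ext fun x => Additive.ofMul.injective (h (Additive.ofMul x)))⟩
  have h2 : ∀ e : Additive (S : Subgroup G), 2 • e = 0 := fun e => by
    rw [two_nsmul]
    exact congrArg Additive.ofMul (Subtype.ext (hel.sq S.2 e.toMul.2) :
      e.toMul * e.toMul = (1 : (S : Subgroup G)))
  obtain ⟨⟨y, hy⟩, hy1⟩ := Subgroup.ne_bot_iff_exists_ne_one.1 hQ
  have hy1' : y ≠ 1 := fun h => hy1 (Subtype.ext h)
  haveI : Nontrivial (Additive (S : Subgroup G)) := ⟨⟨Additive.ofMul ⟨y, hWS (hQW hy)⟩, 0, fun h =>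
    hy1' (congrArg (fun z : Additive (S : Subgroup G) => (z.toMul : G)) h)⟩⟩
  have hodd : Odd (Nat.card D) := by
    refine Nat.not_even_iff_odd.1 fun h => ?_
    have hle : (S : Subgroup G).subgroupOf (Subgroup.normalizer ((S : Subgroup G) : Set G)) ≤ φ.ker := by
      rw [hφdef, Subgroup.normalizerMonoidHom_ker]
      intro x hx
      exact Subgroup.mem_centralizer_iff.2 fun z hz => hel.comm S.2 hz hx
    have h1 : Nat.card D ∣
        ((S : Subgroup G).subgroupOf (Subgroup.normalizer ((S : Subgroup G) : Set G))).index := by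
      rw [hDdef, ← Subgroup.index_ker φ]
      exact Subgroup.index_dvd_of_le hle
    refine S.not_dvd_index ((even_iff_two_dvd.1 h).trans (h1.trans ?_))
    exact ⟨(Subgroup.normalizer ((S : Subgroup G) : Set G)).index,
      (Subgroup.relIndex_mul_index (Subgroup.le_normalizer)).symm⟩
  have hord : ∀ a : Additive (S : Subgroup G), a ≠ 0 → orderOf (a.toMul : G) = 2 := fun a ha =>
    hel.order S.2 a.toMul.2 fun h => ha (Subtype.ext h : a.toMul = (1 : (S : Subgroup G)))
  have htrans : ∀ a b : Additive (S : Subgroup G), a ≠ 0 → b ≠ 0 → ∃ d : D, d • a = b := by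
    intro a b ha hb
    obtain ⟨g, hg⟩ := isConj_iff.1 (hone _ _ (hord a ha) (hord b hb))
    obtain ⟨m, hm, hmeq⟩ := S.conj_eq_normalizer_conj_of_mem (a.toMul : G) g⁻¹ a.toMul.2
      (by rw [inv_inv, hg]; exact b.toMul.2)
    rw [inv_inv, hg] at hmeq
    refine ⟨⟨φ ⟨m⁻¹, inv_mem hm⟩, ⟨_, rfl⟩⟩, congrArg Additive.ofMul (Subtype.ext ?_)⟩
    show m⁻¹ * (a.toMul : G) * m⁻¹⁻¹ = (b.toMul : G)
    rw [inv_inv, ← hmeq]
  -- the pointwise stabilizer of `Qs` acting trivially modulo `W`
  let A₀ : Submonoid D :=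
    { carrier := {d | (∀ x : (S : Subgroup G), (x : G) ∈ Qs → (d : MulAut (S : Subgroup G)) x = x) ∧
        ∀ x : (S : Subgroup G), (((d : MulAut (S : Subgroup G)) x * x⁻¹ : (S : Subgroup G)) : G) ∈ W}
      one_mem' := ⟨fun x _ => rfl, fun x => by simp [W.one_mem]⟩
      mul_mem' := fun {a b} ha hb => ⟨fun x hx => by
          rw [Subgroup.coe_mul, MulAut.mul_apply, hb.1 x hx, ha.1 x hx], fun x => by
          have h := W.mul_mem (ha.2 ((b : MulAut (S : Subgroup G)) x)) (hb.2 x)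
          rw [← Subgroup.coe_mul, mul_assoc, inv_mul_cancel_left] at h
          exact h⟩ }
  let A : Subgroup D :=
    { A₀ with
      inv_mem' := fun {a} ha => by
        have : a⁻¹ = a ^ (orderOf a - 1) := inv_eq_of_mul_eq_one_right (by
          rw [← pow_succ', Nat.sub_add_cancel (orderOf_pos a), pow_orderOf_eq_one])
        rw [this]
        exact pow_mem (S := A₀) ha _ }
  haveI : Fintype A := Fintype.ofFinite A
  -- the norm
  let Y : AddSubgroup (Additive (S : Subgroup G)) :=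
    { carrier := {y | ∀ a ∈ A, a • y = y}
      zero_mem' := fun a _ => smul_zero a
      add_mem' := fun hy hz a ha => by rw [smul_add, hy a ha, hz a ha]
      neg_mem' := fun hy a ha => by rw [smul_neg, hy a ha] }
  let Wa : AddSubgroup (Additive (S : Subgroup G)) :=
    { carrier := {x | ((x.toMul : (S : Subgroup G)) : G) ∈ W}
      zero_mem' := W.one_mem
      add_mem' := fun hx hy => W.mul_mem hx hy
      neg_mem' := fun hx => W.inv_mem hx }
  let Qa : AddSubgroup (Additive (S : Subgroup G)) :=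
    { carrier := {x | ((x.toMul : (S : Subgroup G)) : G) ∈ Qs}
      zero_mem' := Qs.one_mem
      add_mem' := fun hx hy => Qs.mul_mem hx hy
      neg_mem' := fun hx => Qs.inv_mem hx }
  -- the transitive family
  let a₀ : Additive (S : Subgroup G) := Additive.ofMul ⟨w₀, hWS hw₀⟩
  have hgen : ∀ x : Additive (S : Subgroup G), x ∈ Wa → x ∉ Qa →
      ∃ a ∈ A, x - a • a₀ ∈ Qa := by
    intro x hx hxQ
    obtain ⟨g, hg, hgQ, hgW, hgw⟩ := hmove _ hx hxQ
    refine ⟨⟨φ ⟨g, hg⟩, ⟨_, rfl⟩⟩, ⟨fun z hz => Subtype.ext (hgQ z hz), fun z => hgW z z.2⟩, ?_⟩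
    rw [sub_eq_add_neg]
    show (x.toMul : G) * (g * w₀ * g⁻¹)⁻¹ ∈ Qs
    rw [hel.comm S.2 x.toMul.2 (inv_mem ((Subgroup.mem_normalizer_iff.1 hg w₀).1 (hWS hw₀)))]
    exact hgw
  have hQY : Qa ≤ Y := fun x hx a ha => congrArg Additive.ofMul (ha.1 x.toMul hx)
  have hcardW : Nat.card Wa = Nat.card Qa * 2 ^ n := by
    rw [show Nat.card Wa = Nat.card W from Nat.card_congr
        ⟨fun x => ⟨_, x.2⟩, fun w => ⟨Additive.ofMul ⟨w, hWS w.2⟩, w.2⟩, fun _ => rfl, fun _ => rfl⟩,
      show Nat.card Qa = Nat.card Qs from Nat.card_congr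
        ⟨fun x => ⟨_, x.2⟩, fun w => ⟨Additive.ofMul ⟨w, hWS (hQW w.2)⟩, w.2⟩, fun _ => rfl,
          fun _ => rfl⟩, hW]
  have hQaW : Qa ≤ Wa := fun x hx => hQW hx
  set r := Qa.relIndex Wa with hr
  have hrel : r = 2 ^ n := by
    have h := Qa.addSubgroupOf Wa |>.card_mul_index
    rw [Nat.card_congr (AddSubgroup.addSubgroupOfEquivOfLe hQaW).toEquiv, hcardW] at h
    exact Nat.eq_of_mul_eq_mul_left Nat.card_pos h
  haveI : Fintype (Wa ⧸ Qa.addSubgroupOf Wa) := Fintype.ofFinite _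
  -- the orbit is large
  have hA : 2 ^ n - 1 ≤ Nat.card A := by
    have hsurj : ∀ z : Wa ⧸ Qa.addSubgroupOf Wa, z ≠ 0 →
        ∃ a : A, ∃ h : (a : D) • a₀ ∈ Wa, (QuotientAddGroup.mk ⟨_, h⟩ : Wa ⧸ Qa.addSubgroupOf Wa) = z := by
      intro z hz
      obtain ⟨⟨x, hx⟩, rfl⟩ := QuotientAddGroup.mk_surjective z
      have hxQ : x ∉ Qa := fun h => hz ((QuotientAddGroup.eq_zero_iff _).2 h)
      obtain ⟨a, ha, hd⟩ := hgen x hx hxQ
      have hmem : a • a₀ ∈ Wa := by
        have := Wa.sub_mem hx (hQaW hd)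
        rwa [sub_sub_cancel] at this
      refine ⟨⟨a, ha⟩, hmem, QuotientAddGroup.eq.2 ?_⟩
      show -(a • a₀) + x ∈ Qa
      rwa [neg_add_eq_sub]
    choose f hfmem hf using hsurj
    have hinj : Function.Injective fun z : {z : Wa ⧸ Qa.addSubgroupOf Wa // z ≠ 0} => f z.1 z.2 := by
      intro z z' h
      refine Subtype.ext ?_
      rw [← hf z.1 z.2, ← hf z'.1 z'.2]
      congr 2
      simp only at h
      rw [h]
    refine le_trans (le_of_eq ?_) (Nat.card_le_card_of_injective _ hinj)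
    rw [Nat.card_eq_fintype_card, Fintype.card_subtype_compl, Fintype.card_subtype_eq,
      ← Nat.card_eq_fintype_card, ← AddSubgroup.index_eq_card, ← hrel]
    rfl
  -- fixed points in `Wa`
  have hfixW : ∀ x ∈ Wa, x ∈ Y → x ∈ Qa := by
    intro x hx hxY
    by_contra hxQ
    obtain ⟨a, ha, hd⟩ := hgen x hx hxQ
    -- all nonzero classes coincide
    have key : ∀ z : Additive (S : Subgroup G), z ∈ Wa → z ∉ Qa → z - x ∈ Qa := by
      intro z hz hzQ
      obtain ⟨b, hb, hbd⟩ := hgen z hz hzQ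
      have h1 : b • (a⁻¹ • (x - a • a₀)) = b • a⁻¹ • x - b • a₀ := by
        rw [smul_sub, smul_sub, inv_smul_smul]
      rw [hQY hd _ (A.inv_mem ha), hQY hd _ hb, hxY _ (A.inv_mem ha), hxY _ hb] at h1
      have : z - x = (z - b • a₀) - (x - b • a₀) := by abel
      rw [this, ← h1]
      exact Qa.sub_mem hbd hd
    have h4 : Nat.card (Wa ⧸ Qa.addSubgroupOf Wa) ≤ 2 := by
      let f : Fin 2 → Wa ⧸ Qa.addSubgroupOf Wa := fun i =>
        if i = 0 then 0 else QuotientAddGroup.mk ⟨x, hx⟩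
      refine le_trans (Nat.card_le_card_of_surjective f fun z => ?_) (le_of_eq (Nat.card_fin 2))
      obtain ⟨⟨z, hz⟩, rfl⟩ := QuotientAddGroup.mk_surjective z
      by_cases hzQ : z ∈ Qa
      · exact ⟨0, by simp only [f, if_pos rfl]; exact ((QuotientAddGroup.eq_zero_iff _).2 (AddSubgroup.mem_addSubgroupOf.2 hzQ)).symm⟩
      · refine ⟨1, ?_⟩
        simp only [f, Fin.reduceEq, if_false]
        refine QuotientAddGroup.eq.2 ?_
        show -x + z ∈ Qa
        rw [neg_add_eq_sub]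
        exact key z hz hzQ
    rw [← AddSubgroup.index_eq_card] at h4
    change Qa.relIndex Wa ≤ 2 at h4
    rw [← hr, hrel] at h4
    have := Nat.pow_le_pow_right (show 1 ≤ 2 by norm_num) hn
    omega
  -- every element is fixed modulo `Wa`
  have hsplit : ∀ x, x ∈ Y ⊔ Wa := by
    intro x
    have hoddA : Odd (Fintype.card A) := by
      rw [← Nat.card_eq_fintype_card]
      exact hodd.of_dvd_nat (Subgroup.card_subgroup_dvd_card A)
    set N := ∑ a : A, (a : D) • x with hN
    have hNY : N ∈ Y := fun b hb => by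
      rw [hN, Finset.smul_sum]
      exact Fintype.sum_equiv (Equiv.mulLeft (⟨b, hb⟩ : A)) _ _ fun a => (mul_smul _ _ _).symm
    have hdiff : N - x ∈ Wa := by
      obtain ⟨k, hk⟩ := hoddA
      have : N - x = ∑ a : A, ((a : D) • x - x) := by
        rw [Finset.sum_sub_distrib, Finset.sum_const, Finset.card_univ, hk, add_smul, one_smul,
          mul_comm, mul_smul, h2, smul_zero, zero_add]
      rw [this]
      refine Wa.sum_mem fun a _ => ?_
      have h := a.2.2 x.toMul
      rwa [← div_eq_mul_inv] at h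
    rw [show x = N + -(N - x) by abel]
    exact AddSubgroup.add_mem_sup hNY (Wa.neg_mem hdiff)
  -- the cardinality
  have hcard : Nat.card (Additive (S : Subgroup G)) = Nat.card Y * 2 ^ n := by
    have htop : Y ⊔ Wa = ⊤ := top_le_iff.1 fun x _ => hsplit x
    have hinf : Wa ⊓ Y = Qa := le_antisymm (fun x hx => hfixW x hx.1 hx.2)
      (le_inf hQaW hQY)
    have h1 : Y.relIndex Wa = Y.index := by
      rw [← AddSubgroup.relIndex_sup_right, sup_comm, htop, AddSubgroup.relIndex_top_right]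
    have h2' : Y.relIndex Wa = 2 ^ n := by
      rw [← AddSubgroup.inf_relIndex_right, inf_comm, hinf, ← hr, hrel]
    rw [← Y.card_mul_index, ← h1, h2']
  refine eq_eight (E := Additive (S : Subgroup G)) hodd h2 htrans A Y ?_ (fun a ha y hy => hy a ha) hn hcard hA
  intro h
  have hQbot : (Additive.ofMul (⟨y, hWS (hQW hy)⟩ : (S : Subgroup G))) ∈ Y := hQY hy
  rw [h, AddSubgroup.mem_bot] at hQbot
  exact hy1' (congrArg (fun z : Additive (S : Subgroup G) => (z.toMul : G)) hQbot)

end CfsgLib.ConstDrop
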