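import Cfsg.Agent.EightTwentyOne.Combinatorics

/-!
Three integral columns of Gram matrix `2 (I + J)` cannot support a constant drop of 8: some
character would be smaller at `u` than minus its degree.
-/

set_option autoImplicit false

namespace CfsgLib.ConstDrop

open Finset CfsgLib.EightTwentyOne

variable {ι : Type*} [Fintype ι] [DecidableEq ι]

/-- A column sum off the principal member: even and not extreme. -/
theorem column_sum {d x : ι → ℤ} (hx : ∀ r, 0 < x r) (hd : ∀ r, d r = 0 ∨ d r = 1 ∨ d r = -1)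
    (hn : ∑ r, d r * d r = 4) (hdeg : ∑ r, x r * d r = 0) :
    ∑ r, d r = 2 ∨ ∑ r, d r = 0 ∨ ∑ r, d r = -2 := by
  have hc := card_supp hd hn
  set P := univ.filter fun r => d r = 1
  set N := univ.filter fun r => d r = -1
  have hu : supp d = P ∪ N := by
    ext r
    simp only [mem_supp, P, N, mem_union, mem_filter, mem_univ, true_and]
    rcases hd r with h | h | h <;> omega
  have hdisj : Disjoint P N := disjoint_left.2 fun r h h' => by
    simp only [P, N, mem_filter, mem_univ, true_and] at h h'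
    omega
  have hcard : P.card + N.card = 4 := by rw [← card_union_of_disjoint hdisj, ← hu, hc]
  have hsum : ∀ f : ι → ℤ, ∑ r, f r * d r = ∑ r ∈ P, f r - ∑ r ∈ N, f r := fun f => by
    have h := sum_supp (R := ℤ) (d := d) f
    simp only [Int.cast_id] at h
    rw [h, hu, sum_union hdisj, sub_eq_add_neg, ← sum_neg_distrib]
    refine congrArg₂ (· + ·) (sum_congr rfl fun r hr => ?_) (sum_congr rfl fun r hr => ?_)
    · simp only [P, mem_filter, mem_univ, true_and] at hr
      simp [hr]
    · simp only [N, mem_filter, mem_univ, true_and] at hr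
      simp [hr]
  have h1 := hsum fun _ => 1
  simp only [one_mul, sum_const, nsmul_eq_mul, mul_one] at h1
  have hP : P.Nonempty := by
    by_contra h
    rw [not_nonempty_iff_eq_empty] at h
    have hN : N.Nonempty := card_pos.1 (by rw [h, card_empty] at hcard; omega)
    have := sum_pos (fun r _ => hx r) hN
    rw [hsum x, h, sum_empty] at hdeg
    omega
  have hN : N.Nonempty := by
    by_contra h
    rw [not_nonempty_iff_eq_empty] at h
    have := sum_pos (fun r _ => hx r) hP
    rw [hsum x, h, sum_empty] at hdeg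
    omega
  have := hP.card_pos
  have := hN.card_pos
  omega

/-- The contradiction. -/
theorem false_of_drop (o : ι) (δ c₀ c₁ c₂ : ι → ℤ) (β γ : ℤ) (ho : δ o = 1) (o0 : c₀ o = 1)
    (o1 : c₁ o = 0) (o2 : c₂ o = 0) (n0 : ∑ r, c₀ r * c₀ r = 4) (n1 : ∑ r, c₁ r * c₁ r = 4)
    (n2 : ∑ r, c₂ r * c₂ r = 4) (i01 : ∑ r, c₀ r * c₁ r = 2) (i02 : ∑ r, c₀ r * c₂ r = 2)
    (i12 : ∑ r, c₁ r * c₂ r = 2) (hδ : ∀ r, δ r = c₀ r + β * c₁ r + γ * c₂ r)
    (x : ι → ℤ) (hxo : x o = 1) (hx : ∀ r, r ≠ o → x r = 8 + δ r) (hpos : ∀ r, 0 < x r)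
    (hlow : ∀ r, r ≠ o → -4 ≤ δ r) (e0 : ∑ r, x r * c₀ r = 0) (e1 : ∑ r, x r * c₁ r = 0)
    (e2 : ∑ r, x r * c₂ r = 0) : False := by
  have v0 := eq_or_eq_neg_of_norm hpos n0 e0
  have v1 := eq_or_eq_neg_of_norm hpos n1 e1
  have v2 := eq_or_eq_neg_of_norm hpos n2 e2
  have W0 := column_sum hpos v0 n0 e0
  have W1 := column_sum hpos v1 n1 e1
  have W2 := column_sum hpos v2 n2 e2
  -- the three linear relations
  have hrel : ∀ c : ι → ℤ, ∑ r, x r * c r = 0 →
      8 * (∑ r, c r - c o) + ∑ r, δ r * c r = 0 := by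
    intro c hc
    have h1 : ∀ r, x r * c r = 8 * c r + δ r * c r - (if r = o then 8 * c o else 0) := by
      intro r
      by_cases hr : r = o
      · subst hr
        rw [if_pos rfl, hxo, ho]
        ring
      · rw [if_neg hr, hx r hr]
        ring
    rw [sum_congr rfl fun r _ => h1 r, sum_sub_distrib, sum_add_distrib, ← mul_sum,
      sum_ite_eq' univ o, if_pos (mem_univ _)] at hc
    linarith
  have hinner : ∀ c : ι → ℤ, ∑ r, δ r * c r =
      ∑ r, c₀ r * c r + β * ∑ r, c₁ r * c r + γ * ∑ r, c₂ r * c r := fun c => by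
    rw [mul_sum, mul_sum, ← sum_add_distrib, ← sum_add_distrib]
    exact sum_congr rfl fun r _ => by rw [hδ r]; ring
  have r0 := hrel c₀ e0
  have r1 := hrel c₁ e1
  have r2 := hrel c₂ e2
  have c10 : ∑ r, c₁ r * c₀ r = 2 := by rw [← i01]; exact sum_congr rfl fun r _ => mul_comm _ _
  have c20 : ∑ r, c₂ r * c₀ r = 2 := by rw [← i02]; exact sum_congr rfl fun r _ => mul_comm _ _
  have c21 : ∑ r, c₂ r * c₁ r = 2 := by rw [← i12]; exact sum_congr rfl fun r _ => mul_comm _ _
  rw [hinner, n0, c10, c20, o0] at r0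
  rw [hinner, i01, n1, c21, o1] at r1
  rw [hinner, i02, i12, n2, o2] at r2
  -- a member where two columns share a sign
  have hne : ∀ r, c₁ r ≠ 0 → r ≠ o := fun r h e => h (e ▸ o1)
  have hne2 : ∀ r, c₂ r ≠ 0 → r ≠ o := fun r h e => h (e ▸ o2)
  have k12 := not_four hpos v1 v2 (card_supp v1 n1) (card_supp v2 n2) i12 e1 e2
  have s12 := (agree v1 v2 i12).2.2 k12
  have k01 := not_four hpos v0 v1 (card_supp v0 n0) (card_supp v1 n1) i01 e0 e1
  have s01 := (agree v0 v1 i01).2.2 k01
  have k02 := not_four hpos v0 v2 (card_supp v0 n0) (card_supp v2 n2) i02 e0 e2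
  have s02 := (agree v0 v2 i02).2.2 k02
  have hneg : ∀ (d : ι → ℤ), (∀ r, d r = 0 ∨ d r = 1 ∨ d r = -1) → ∑ r, d r * d r = 4 →
      2 * ((univ.filter fun r => d r = -1).card : ℤ) = 4 - ∑ r, d r := by
    intro d hd hn
    rw [← hn, ← sum_sub_distrib, card_eq_sum_ones, Nat.cast_sum, mul_sum, sum_filter]
    refine sum_congr rfl fun r _ => ?_
    rcases hd r with h | h | h <;> simp [h]
  -- case of two positive sums
  have hA : ∑ r, c₁ r = 2 → β = -3 → γ = -3 → False := by
    intro h1 hb hg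
    have hn := hneg c₁ v1 n1
    rw [h1] at hn
    obtain ⟨A, B, hAB, hpair⟩ := card_eq_two.1 k12
    have key : ∀ r ∈ supp c₁ ∩ supp c₂, c₁ r = -1 := by
      intro r hr
      rcases v1 r with h | h | h
      · exact absurd h (mem_supp.1 (mem_inter.1 hr).1)
      · exfalso
        have hd := hδ r
        have hl := hlow r (hne r (by omega))
        rw [s12 r hr, h, hb, hg] at hd
        rcases v0 r with h' | h' | h' <;> omega
      · exact h
    have hle : (supp c₁ ∩ supp c₂).card ≤ (univ.filter fun r => c₁ r = -1).card :=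
      card_le_card fun r hr => mem_filter.2 ⟨mem_univ _, key r hr⟩
    omega
  -- case of a negative sum
  have hB : ∀ (d e : ι → ℤ), (∀ r, d r = 0 ∨ d r = 1 ∨ d r = -1) →
      (∀ r, e r = 0 ∨ e r = 1 ∨ e r = -1) → ∑ r, d r * d r = 4 → ∑ r, d r = -2 →
      d o = 0 → (∀ r ∈ supp c₀ ∩ supp d, d r = c₀ r) → (supp d ∩ supp e).card = 2 →
      (∀ r, δ r = c₀ r + 5 * d r + -3 * e r) → False := by
    intro d e hd he hn hs hdo hs0 hk hδ'
    have hn' := hneg d hd hn
    rw [hs] at hn'
    have hle : (univ.filter fun r => d r = -1).card ≤ (supp d ∩ supp e).card := by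
      refine card_le_card fun r hr => ?_
      have h : d r = -1 := (mem_filter.1 hr).2
      refine mem_inter.2 ⟨mem_supp.2 (by omega), mem_supp.2 fun h0 => ?_⟩
      have hl := hlow r (fun e' => by subst e'; omega)
      have hd' := hδ' r
      rw [h, h0] at hd'
      rcases v0 r with h' | h' | h'
      · omega
      · have := hs0 r (mem_inter.2 ⟨mem_supp.2 (by omega), mem_supp.2 (by omega)⟩)
        omega
      · omega
    omega
  rcases W0 with w0 | w0 | w0 <;> rcases W1 with w1 | w1 | w1 <;> rcases W2 with w2 | w2 | w2 <;>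
    rw [w0] at r0 <;> rw [w1] at r1 <;> rw [w2] at r2 <;>
    first
    | omega
    | exact hA w1 (by omega) (by omega)
    | exact hB c₁ c₂ v1 v2 n1 w1 o1 s01 k12 fun r => by
        rw [hδ r, show β = 5 by omega, show γ = -3 by omega]
    | exact hB c₂ c₁ v2 v1 n2 w2 o2 s02 (by rw [inter_comm]; exact k12) fun r => by
        rw [hδ r, show β = -3 by omega, show γ = 5 by omega]; ring

end CfsgLib.ConstDrop
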