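import Cfsg.Agent.InvCentPSL.PSLFacts
import Cfsg.Agent.RootSubgroups.PSLEven
import Cfsg.Agent.Classical.SylowTwoSL
import Cfsg.Agent.Classical.Transvections

/-!
The facts about `PSL₂(q)`, `q ≡ 3, 5 (mod 8)` or `q` a power of two, that are used below.
-/

set_option autoImplicit false
set_option linter.unusedSectionVars false
set_option linter.style.haveILetI false

namespace CfsgLib.ConstDrop

open CfsgLib.Linear.SmallSub (P2)

universe u

/-- The fields that occur. -/
def Admissible (F : Type) [Fintype F] : Prop :=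
  ((Fintype.card F % 8 = 3 ∨ Fintype.card F % 8 = 5) ∧ 5 ≤ Fintype.card F) ∨
    (∃ n : ℕ, 2 ≤ n ∧ Fintype.card F = 2 ^ n)

/-- What is needed about `PSL₂(q)`. -/
theorem psl_data {L : Type u} [Group L] [Finite L] {F : Type} [Field F] [Fintype F]
    (hF : Admissible F) (e : L ≃* Matrix.ProjectiveSpecialLinearGroup (Fin 2) F) :
    IsSimpleGroup L ∧ ¬ IsMulCommutative L ∧
      (∀ a b : L, a * a = 1 → a ≠ 1 → b * b = 1 → b ≠ 1 → ∃ g : L, g * a * g⁻¹ = b) ∧
      (∀ V : Sylow 2 L, ∃ n : ℕ, 2 ≤ n ∧ Nat.card V = 2 ^ n ∧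
        (∀ m : ℕ, Fintype.card F = 2 ^ m → Nat.card V = Fintype.card F)) ∧
      (∀ m : ℕ, Fintype.card F = 2 ^ m → ∀ a : L, a * a = 1 → a ≠ 1 →
        ∀ x : L, Commute x a → x * x = 1) := by
  haveI : Fact (Nat.Prime 2) := ⟨Nat.prime_two⟩
  classical
  have h4 : 4 ≤ Fintype.card F := by
    rcases hF with ⟨-, h5⟩ | ⟨n, hn, hc⟩
    · omega
    · rw [hc]; exact le_trans (by norm_num) (Nat.pow_le_pow_right (by norm_num) hn)
  have hx : ∃ x : F, x ≠ 0 ∧ x ^ 2 ≠ 1 := by
    classical
    by_contra hall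
    push Not at hall
    have hsub : (Finset.univ : Finset F) ⊆ {0, 1, -1} := fun x _ => by
      simp only [Finset.mem_insert, Finset.mem_singleton]
      by_cases h0 : x = 0
      · exact Or.inl h0
      · exact Or.inr (sq_eq_one_iff.1 (hall x h0))
    have h1 := Finset.card_le_card hsub
    rw [Finset.card_univ] at h1
    have h2 : ({0, 1, -1} : Finset F).card ≤ 3 := Finset.card_le_three
    omega
  haveI : IsSimpleGroup (P2 F) := CfsgLib.Linear.isSimpleGroup_PSL (Or.inr hx)
  have hsimp : IsSimpleGroup L := e.isSimpleGroup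
  have hna : ¬ IsMulCommutative (P2 F) := fun h => by
    letI : CommGroup (P2 F) :=
      { (inferInstance : Group (P2 F)) with mul_comm := fun a b => h.is_comm.comm a b }
    have hp : (Nat.card (P2 F)).Prime := IsSimpleGroup.prime_card
    rw [CfsgLib.Linear.PSLTwo.card_eq] at hp
    have hq : 4 ≤ Nat.card F := by rw [Nat.card_eq_fintype_card]; exact h4
    rcases Nat.prime_mul_iff.1 hp with ⟨_, h1⟩ | ⟨_, h1⟩
    · have := Nat.eq_one_of_dvd_one ⟨_, h1.symm⟩
      omega
    · omega
  have hconj : ∀ a b : P2 F, a * a = 1 → a ≠ 1 → b * b = 1 → b ≠ 1 →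
      ∃ g : P2 F, g * a * g⁻¹ = b := by
    intro a b ha ha1 hb hb1
    rcases hF with ⟨h8, -⟩ | ⟨n, hn, hc⟩
    · exact isConj_iff.1 (CfsgLib.Linear.FourGroups.involutions_conj (Nat.odd_iff.2 (by omega)) ha ha1 hb hb1)
    · haveI : CharP F 2 := charP_of_card_eq_prime_pow hc
      exact CfsgLib.PSLEven.exists_conj_involution ha ha1 hb hb1
  have heven : ∀ m : ℕ, Fintype.card F = 2 ^ m → ∀ a : P2 F, a * a = 1 → a ≠ 1 →
      Nat.card (Subgroup.centralizer ({a} : Set (P2 F))) = Fintype.card F ∧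
      ∀ x ∈ Subgroup.centralizer ({a} : Set (P2 F)), x * x = 1 := fun m hm a ha ha1 => by
    haveI : CharP F 2 := charP_of_card_eq_prime_pow hm
    exact CfsgLib.PSLEven.centralizer_involution ha ha1
  refine ⟨hsimp, fun h => hna ⟨⟨fun a b => e.symm.injective (by
      rw [map_mul, map_mul]; exact h.is_comm.comm _ _)⟩⟩, fun a b ha ha1 hb hb1 => ?_, fun V => ?_,
    fun m hm a ha ha1 x hx' => ?_⟩
  · obtain ⟨g, hg⟩ := hconj (e a) (e b) (by rw [← map_mul, ha, map_one])
      (fun h => ha1 (e.injective (h.trans (map_one e).symm))) (by rw [← map_mul, hb, map_one])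
      (fun h => hb1 (e.injective (h.trans (map_one e).symm)))
    exact ⟨e.symm g, e.injective (by
      rw [map_mul, map_mul, map_inv, e.apply_symm_apply, hg])⟩
  · obtain ⟨W⟩ : Nonempty (Sylow 2 (P2 F)) := inferInstance
    have hcard : Nat.card V = Nat.card W := by
      rw [V.card_eq_multiplicity, W.card_eq_multiplicity, Nat.card_congr e.toEquiv]
    rw [hcard]
    rcases hF with ⟨h8, -⟩ | ⟨n, hn, hc⟩
    · refine ⟨2, le_rfl, ?_, fun m hm => ?_⟩
      · haveI := CfsgLib.Linear.SylowTwoSL.isKleinFour_sylow_psl rfl h8 W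
        exact IsKleinFour.card_four
      · exfalso
        rcases m with _ | m
        · rw [hm] at h4; norm_num at h4
        · have : Fintype.card F % 2 = 0 := by
            rw [hm, pow_succ]; omega
          omega
    · haveI : CharP F 2 := charP_of_card_eq_prime_pow hc
      have hqd : 2 ∣ Nat.card (P2 F) := CfsgLib.Linear.PSLTwo.dvd_card 2
      obtain ⟨a, ha⟩ := exists_prime_orderOf_dvd_card' (G := (W : Subgroup (P2 F))) 2
        (W.dvd_card_of_dvd_card hqd)
      have ha2 : (a : P2 F) * a = 1 := by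
        have h := pow_orderOf_eq_one (a : P2 F)
        rw [Subgroup.orderOf_coe, ha, sq] at h
        exact h
      have ha1 : (a : P2 F) ≠ 1 := fun h => by
        rw [← Subgroup.orderOf_coe, h, orderOf_one] at ha; omega
      obtain ⟨hcC, hC2⟩ := heven n hc _ ha2 ha1
      have hp : IsPGroup 2 (Subgroup.centralizer ({(a : P2 F)} : Set (P2 F))) :=
        IsPGroup.of_card (n := n) (by rw [hcC, hc])
      obtain ⟨Q, hQ⟩ := hp.exists_le_sylow
      have hQW : Nat.card W = Nat.card Q := Nat.card_congr (Sylow.equiv W Q).toEquiv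
      obtain ⟨z, hz1, hzc⟩ : ∃ z ∈ (Q : Subgroup (P2 F)), z ≠ 1 ∧
          ∀ x ∈ (Q : Subgroup (P2 F)), Commute x z := by
        haveI : Nontrivial (Q : Subgroup (P2 F)) := by
          refine ⟨⟨⟨a, hQ (Subgroup.mem_centralizer_singleton_iff.2 rfl)⟩, 1, fun h => ha1 ?_⟩⟩
          exact congrArg Subtype.val h
        haveI := Q.2.center_nontrivial
        obtain ⟨⟨z, hz⟩, hzne⟩ := exists_ne (1 : Subgroup.center (Q : Subgroup (P2 F)))
        obtain ⟨j, hj⟩ := IsPGroup.iff_orderOf.1 Q.2 z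
        obtain ⟨i, hi⟩ : ∃ i, j = i + 1 := Nat.exists_eq_succ_of_ne_zero fun h0 => hzne
          (Subtype.ext (orderOf_eq_one_iff.1 (by rw [hj, h0, pow_zero])))
        refine ⟨((z ^ 2 ^ i : (Q : Subgroup (P2 F))) : P2 F), SetLike.coe_mem _, fun h => ?_,
          fun x hx => ?_⟩
        · have := orderOf_dvd_of_pow_eq_one (Subtype.ext h : z ^ 2 ^ i = 1)
          rw [hj, hi, Nat.pow_dvd_pow_iff_le_right (by norm_num)] at this
          omega
        · exact congrArg Subtype.val ((Subgroup.mem_center_iff.1 (pow_mem hz (2 ^ i))) ⟨x, hx⟩)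
      obtain ⟨hzne, hzcomm⟩ := hzc
      have hz2 : z * z = 1 := hC2 z (Subgroup.mem_centralizer_singleton_iff.2
        (hzcomm a (hQ (Subgroup.mem_centralizer_singleton_iff.2 rfl))).symm)
      have hle : (Q : Subgroup (P2 F)) ≤ Subgroup.centralizer ({z} : Set (P2 F)) := fun x hx =>
        Subgroup.mem_centralizer_singleton_iff.2 (hzcomm x hx)
      have hQle : Nat.card Q ≤ Fintype.card F := by
        rw [← (heven n hc z hz2 hzne).1]
        exact Subgroup.card_le_of_le hle
      have hQge : Fintype.card F ≤ Nat.card Q := hcC ▸ Subgroup.card_le_of_le hQ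
      refine ⟨n, hn, by rw [hQW, ← hc]; omega, fun m _ => by rw [hQW]; omega⟩
  · have := (heven m hm (e a) (by rw [← map_mul, ha, map_one])
      (fun h => ha1 (e.injective (h.trans (map_one e).symm)))).2 (e x)
      (Subgroup.mem_centralizer_singleton_iff.2 (hx'.map e).eq)
    exact e.injective (by rw [map_mul, map_one]; exact this)

end CfsgLib.ConstDrop
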