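import Cfsg.Agent.ConstDrop.Automizer
import Cfsg.Agent.ConstDrop.PSLData
import Cfsg.Agent.ZCGroup.Main
import Cfsg.Agent.S3188

/-!
In a group with elementary abelian Sylow 2-subgroups of order not 8 and one class of involutions,
the involution centralizers are solvable: a minimal counterexample has a section of type
`PSL₂(q)`, whose automizer contradicts the dimension count.
-/

set_option autoImplicit false
set_option linter.unusedSectionVars false
set_option linter.style.haveILetI false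

namespace CfsgLib.ConstDrop

open Subgroup

universe u

variable {G : Type u} [Group G] [Finite G]

theorem Elem2.quotient (hel : Elem2 G) (N : Subgroup G) [N.Normal] : Elem2 (G ⧸ N) := by
  rintro q ⟨a, ha⟩
  obtain ⟨g, rfl⟩ := QuotientGroup.mk'_surjective N q
  obtain ⟨b, m, hm, ho⟩ := Nat.exists_eq_pow_mul_and_not_dvd (orderOf_pos g).ne' 2 (by norm_num)
  set x := g ^ m with hxdef
  have hx : x * x = 1 := by
    have h1 : orderOf x ∣ 2 ^ b := orderOf_dvd_of_pow_eq_one (by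
      rw [hxdef, ← pow_mul, mul_comm, ← ho, pow_orderOf_eq_one])
    obtain ⟨c, -, hc⟩ := (Nat.dvd_prime_pow Nat.prime_two).1 h1
    exact hel x ⟨c, hc⟩
  obtain ⟨j, hj⟩ := exists_pow_eq_self_of_coprime (x := QuotientGroup.mk' N g) (n := m)
    (by rw [ha]; exact ((Nat.Coprime.pow_left a (Nat.prime_two.coprime_iff_not_dvd.2 hm))).symm)
  rw [← hj, ← map_pow, ← map_pow, ← hxdef, ← map_mul, ← (Commute.refl x).mul_pow, hx, one_pow,
    map_one]

/-- An involution of a quotient lifts to an element squaring to one. -/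
theorem exists_two_lift (hel : Elem2 G) (N : Subgroup G) [N.Normal] {q : G ⧸ N}
    (hq : q * q = 1) : ∃ x : G, x * x = 1 ∧ QuotientGroup.mk' N x = q := by
  obtain ⟨g, rfl⟩ := QuotientGroup.mk'_surjective N q
  obtain ⟨b, m, hm, ho⟩ := Nat.exists_eq_pow_mul_and_not_dvd (orderOf_pos g).ne' 2 (by norm_num)
  obtain ⟨k, hk⟩ : ∃ k, m = 2 * k + 1 := Nat.odd_iff.2 (by omega)
  refine ⟨g ^ m, ?_, ?_⟩
  · obtain ⟨c, -, hc⟩ := (Nat.dvd_prime_pow Nat.prime_two).1 (orderOf_dvd_of_pow_eq_one (x := g ^ m)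
      (n := 2 ^ b) (by rw [← pow_mul, mul_comm, ← ho, pow_orderOf_eq_one]))
    exact hel _ ⟨c, hc⟩
  · rw [map_pow, hk, pow_succ, pow_mul, pow_two, hq, one_pow, one_mul]

theorem Elem2.sub (hel : Elem2 G) (H : Subgroup G) : Elem2 H := fun y hy => by
  obtain ⟨a, ha⟩ := hy
  exact Subtype.ext (hel y ⟨a, by rw [Subgroup.orderOf_coe, ha]⟩)

/-- Modulo a central subgroup a solvable centralizer stays solvable. -/
theorem solvable_centralizer_mk {D : Type u} [Group D] [Finite D] (Q : Subgroup D) [Q.Normal]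
    (hQ : Q ≤ center D) (x : D) (h : Group.IsSolvable (centralizer ({x} : Set D))) :
    Group.IsSolvable (centralizer ({QuotientGroup.mk' Q x} : Set (D ⧸ Q))) := by
  set π := QuotientGroup.mk' Q
  set K := (centralizer ({π x} : Set (D ⧸ Q))).comap π
  have hK : ∀ d : K, (d : D) * x * (d : D)⁻¹ * x⁻¹ ∈ Q := fun d => by
    rw [← QuotientGroup.eq_one_iff]
    show π _ = 1
    rw [map_mul, map_mul, map_mul, map_inv, map_inv,
      mem_centralizer_singleton_iff.1 (mem_comap.1 d.2)]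
    group
  let f : K →* Q :=
    { toFun := fun d => ⟨_, hK d⟩
      map_one' := Subtype.ext (by simp)
      map_mul' := fun a b => Subtype.ext (by
        show (a : D) * b * x * ((a : D) * b)⁻¹ * x⁻¹ =
          ((a : D) * x * (a : D)⁻¹ * x⁻¹) * ((b : D) * x * (b : D)⁻¹ * x⁻¹)
        have hz : ∀ w : D, w * ((b : D) * x * (b : D)⁻¹ * x⁻¹) =
            ((b : D) * x * (b : D)⁻¹ * x⁻¹) * w := mem_center_iff.1 (hQ (hK b))
        calc (a : D) * b * x * ((a : D) * b)⁻¹ * x⁻¹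
            = (a : D) * ((b : D) * x * (b : D)⁻¹ * x⁻¹) * (x * (a : D)⁻¹ * x⁻¹) := by group
          _ = ((b : D) * x * (b : D)⁻¹ * x⁻¹) * ((a : D) * (x * (a : D)⁻¹ * x⁻¹)) := by
              rw [hz]; group
          _ = ((a : D) * (x * (a : D)⁻¹ * x⁻¹)) * ((b : D) * x * (b : D)⁻¹ * x⁻¹) := (hz _).symm
          _ = _ := by group) }
  haveI : Group.IsSolvable Q := Group.isSolvable_of_comm fun a b =>
    Subtype.ext (mem_center_iff.1 (hQ b.2) a)
  haveI : Group.IsSolvable f.ker := by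
    haveI := h
    refine Group.isSolvable_of_isSolvable_injective (f := ({
      toFun := fun d => ⟨((d : K) : D), mem_centralizer_singleton_iff.2 ?_⟩
      map_one' := rfl
      map_mul' := fun _ _ => rfl } : f.ker →* centralizer ({x} : Set D)))
      fun a b hab => by
        simp only [MonoidHom.coe_mk, OneHom.coe_mk, Subtype.mk.injEq] at hab
        exact Subtype.ext (Subtype.ext hab)
    exact mul_inv_eq_iff_eq_mul.1 (mul_inv_eq_one.1 (congrArg Subtype.val (MonoidHom.mem_ker.1 d.2) :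
      ((d : K) : D) * x * ((d : K) : D)⁻¹ * x⁻¹ = 1))
  haveI : Group.IsSolvable K :=
    Group.isSolvable_of_ker_le_range f.ker.subtype f (by rw [range_subtype])
  exact Group.isSolvable_of_surjective (f := ({
    toFun := fun d => ⟨π d, mem_comap.1 d.2⟩
    map_one' := Subtype.ext (map_one π)
    map_mul' := fun a b => Subtype.ext (map_mul π _ _) } : K →* centralizer ({π x} : Set (D ⧸ Q))))
    fun y => by
      obtain ⟨d, hd⟩ := QuotientGroup.mk'_surjective Q (y : D ⧸ Q)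
      exact ⟨⟨d, mem_comap.2 (by rw [hd]; exact y.2)⟩, Subtype.ext hd⟩

/-- A minimal nonsolvable centralizer forces order 8. -/
theorem descent (S : Sylow 2 G) (hel : Elem2 G) (hone : OneClass G) (X : Subgroup G)
    (hXS : X ≤ (S : Subgroup G)) (hX : X ≠ ⊥)
    (hns : ¬ Group.IsSolvable (centralizer (X : Set G)))
    (hmin : ∀ Y : Subgroup G, Y ≤ (S : Subgroup G) → Y ≠ ⊥ →
      Nat.card (centralizer (Y : Set G)) < Nat.card (centralizer (X : Set G)) →
      Group.IsSolvable (centralizer (Y : Set G))) :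
    Nat.card S = 8 := by
  classical
  haveI : Fact (Nat.Prime 2) := ⟨Nat.prime_two⟩
  set D := centralizer (X : Set G) with hD
  have hSD : (S : Subgroup G) ≤ D := fun x hx =>
    mem_centralizer_iff.2 fun z hz => hel.comm S.2 (hXS hz) hx
  have helD := hel.sub D
  set P : Sylow 2 D := S.subtype hSD with hP
  have hPmem : ∀ x : D, x ∈ (P : Subgroup D) ↔ (x : G) ∈ (S : Subgroup G) := fun x => Iff.rfl
  set Q : Subgroup D := (P : Subgroup D) ⊓ center D with hQdef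
  haveI hQn : Q.Normal := ⟨fun x hx g => by
    rwa [mem_center_iff.1 hx.2 g, mul_inv_cancel_right]⟩
  have hQc : Q ≤ center D := inf_le_right
  set π := QuotientGroup.mk' Q
  have hπs := QuotientGroup.mk'_surjective Q
  set Pb := P.mapSurjective hπs
  have helb := helD.quotient Q
  -- solvable centralizers in the quotient
  have hC : ∀ q : D ⧸ Q, orderOf q = 2 → Group.IsSolvable (centralizer ({q} : Set (D ⧸ Q))) := by
    intro q hq
    obtain ⟨x, hx, rfl⟩ := exists_two_lift helD Q (by rw [← pow_two, ← hq, pow_orderOf_eq_one])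
    refine solvable_centralizer_mk Q hQc x ?_
    obtain ⟨T, hT⟩ := (IsPGroup.of_card (p := 2) (G := zpowers x) (n := 1) (by
      rw [Nat.card_zpowers, pow_one]
      refine orderOf_eq_prime (by rw [pow_two]; exact hx) fun h1 => ?_
      rw [h1, map_one, orderOf_one] at hq
      omega)).exists_le_sylow
    obtain ⟨d, hd⟩ := MulAction.exists_smul_eq D T P
    set s := d * x * d⁻¹ with hs
    have hsP : s ∈ (P : Subgroup D) := by
      rw [← hd]
      exact ⟨x, hT (mem_zpowers x), rfl⟩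
    have hsQ : s ∉ Q := fun h => by
      have hxQ : x ∈ Q := by
        have := hQn.conj_mem s h d⁻¹
        rwa [hs, show d⁻¹ * (d * x * d⁻¹) * d⁻¹⁻¹ = x by group] at this
      rw [show π x = 1 from (QuotientGroup.eq_one_iff x).2 hxQ, orderOf_one] at hq
      omega
    obtain ⟨e, he⟩ : ∃ e : D, e * s ≠ s * e := by
      by_contra hall
      push Not at hall
      exact hsQ ⟨hsP, mem_center_iff.2 hall⟩
    have hY : X ⊔ zpowers (s : G) ≤ (S : Subgroup G) := sup_le hXS (zpowers_le.2 hsP)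
    have hlt : centralizer ((X ⊔ zpowers (s : G) : Subgroup G) : Set G) < D := by
      refine lt_of_le_of_ne (centralizer_le (SetLike.coe_subset_coe.2 le_sup_left)) fun heq => he (Subtype.ext ?_)
      have he' : (e : G) ∈ centralizer ((X ⊔ zpowers (s : G) : Subgroup G) : Set G) := heq.ge e.2
      exact (mem_centralizer_iff.1 he' _ (mem_sup_right (mem_zpowers _))).symm
    haveI := hmin _ hY (fun h => hX (le_bot_iff.1 (le_sup_left.trans_eq h))) (by
      refine lt_of_le_of_ne (card_le_of_le hlt.le) fun h => hlt.ne ?_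
      exact eq_of_le_of_card_ge hlt.le h.ge)
    refine Group.isSolvable_of_isSolvable_injective (f := ({
      toFun := fun c => ⟨((d * c * d⁻¹ : D) : G), ?_⟩
      map_one' := Subtype.ext (by simp)
      map_mul' := fun a b => Subtype.ext (by simp [mul_assoc]) } :
        centralizer ({x} : Set D) →* centralizer ((X ⊔ zpowers (s : G) : Subgroup G) : Set G)))
      fun a b hab => ?_
    · refine (le_centralizer_iff.1 (sup_le (fun z hz => ?_) (zpowers_le.2 ?_))) (mem_zpowers _)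
      · exact mem_centralizer_iff.2 fun w hw => by
          obtain ⟨j, rfl⟩ := mem_zpowers_iff.1 hw
          exact (Commute.zpow_left (mem_centralizer_iff.1 (d * c * d⁻¹ : D).2 z hz).symm j).eq
      · refine mem_centralizer_iff.2 fun w hw => ?_
        obtain ⟨j, rfl⟩ := mem_zpowers_iff.1 hw
        have hc : Commute ((c : D)) x := mem_centralizer_singleton_iff.1 c.2
        have hcs : Commute (d * c * d⁻¹ : D) s := (Commute.conj_iff d).2 hc
        exact (Commute.zpow_left (hcs.map D.subtype) j).eq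
    · simp only [MonoidHom.coe_mk, OneHom.coe_mk, Subtype.mk.injEq] at hab
      exact Subtype.ext (mul_left_cancel (mul_right_cancel (Subtype.ext hab)))
  -- the section
  rcases Cfsg.Agent.S3188.result Pb (helb.isMulCommutative Pb) hC with hsol |
    ⟨F, i1, i2, hF, N, hN, ⟨e⟩, -⟩
  · refine absurd ?_ hns
    haveI := hsol
    haveI : Group.IsSolvable Q := Group.isSolvable_of_comm fun a b =>
      Subtype.ext (mem_center_iff.1 (hQc b.2) a)
    exact (Group.isSolvable_iff_subgroup_quotient Q).2 ⟨inferInstance, inferInstance⟩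
  haveI := hN
  obtain ⟨-, -, hfus, hsyl, -⟩ := psl_data hF e
  set σ : D →* (D ⧸ Q) ⧸ Cfsg.oddCore (D ⧸ Q) :=
    (QuotientGroup.mk' (Cfsg.oddCore (D ⧸ Q))).comp π with hσ
  have hσs : Function.Surjective σ := (QuotientGroup.mk'_surjective _).comp hπs
  set P₂ := P.mapSurjective hσs with hP₂
  have helR := helb.quotient (Cfsg.oddCore (D ⧸ Q))
  have hP₂mem : ∀ y, y ∈ (P₂ : Subgroup ((D ⧸ Q) ⧸ Cfsg.oddCore (D ⧸ Q))) ↔ ∃ x ∈ (P : Subgroup D), σ x = y := fun y => by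
    rw [hP₂, Sylow.coe_mapSurjective, Subgroup.mem_map]
  -- the kernel meets the Sylow subgroup in the centre part
  have hker : ∀ x ∈ (P : Subgroup D), σ x = 1 ↔ x ∈ Q := by
    intro x hx
    refine ⟨fun h => ?_, fun h => by
      rw [hσ, MonoidHom.comp_apply, show π x = 1 from (QuotientGroup.eq_one_iff x).2 h, map_one]⟩
    have h1 : π x ∈ Cfsg.oddCore (D ⧸ Q) := (QuotientGroup.eq_one_iff (π x)).1 h
    have h2 := DGroup.odd_orderOf (DGroup.odd_oddCore (D ⧸ Q)) h1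
    have h3 : π x = 1 := DGroup.eq_one_of_sq (by rw [← map_mul, helD.sq P.2 hx, map_one]) h2
    exact (QuotientGroup.eq_one_iff x).1 h3
  obtain ⟨V, hV⟩ := ZCGroup.exists_sylow_inf P₂ N
  obtain ⟨n, hn, hVcard, -⟩ := hsyl V
  -- the subgroups of `G`
  set W : Subgroup G := ((P : Subgroup D) ⊓ N.comap σ).map D.subtype with hWdef
  set Qs : Subgroup G := Q.map D.subtype with hQsdef
  have hQW : Qs ≤ W := map_mono fun x hx => ⟨hx.1, by
    show σ x ∈ N
    rw [(hker x hx.1).2 hx]; exact one_mem _⟩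
  have hWS : W ≤ (S : Subgroup G) := by
    rintro _ ⟨x, hx, rfl⟩
    exact hx.1
  have hQne : Qs ≠ ⊥ := by
    obtain ⟨⟨z, hz⟩, hz1⟩ := ne_bot_iff_exists_ne_one.1 hX
    intro h
    have hzQ : (⟨z, hSD (hXS hz)⟩ : D) ∈ Q := ⟨hXS hz, mem_center_iff.2 fun g =>
      Subtype.ext (mem_centralizer_iff.1 g.2 z hz).symm⟩
    exact hz1 (Subtype.ext (mem_bot.1 (h ▸ ⟨_, hzQ, rfl⟩ : z ∈ (⊥ : Subgroup G))))
  have hWcard : Nat.card W = Nat.card Qs * 2 ^ n := by
    rw [hWdef, hQsdef, card_map_of_injective D.subtype_injective,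
      card_map_of_injective D.subtype_injective, ← hVcard]
    let g : ((P : Subgroup D) ⊓ N.comap σ : Subgroup D) →* (V : Subgroup N) :=
      { toFun := fun x => ⟨⟨σ x, x.2.2⟩, by
          rw [hV]; exact mem_subgroupOf.2 ((hP₂mem _).2 ⟨x, x.2.1, rfl⟩)⟩
        map_one' := Subtype.ext (Subtype.ext (map_one σ))
        map_mul' := fun a b => Subtype.ext (Subtype.ext (map_mul σ _ _)) }
    have hgs : Function.Surjective g := by
      rintro ⟨⟨y, hyN⟩, hyV⟩
      rw [hV, mem_subgroupOf] at hyV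
      obtain ⟨x, hx, rfl⟩ := (hP₂mem y).1 hyV
      exact ⟨⟨x, hx, hyN⟩, rfl⟩
    rw [← g.ker.card_mul_index, index_ker, MonoidHom.range_eq_top.2 hgs, card_top]
    congr 1
    refine Nat.card_congr
      { toFun := fun x => ⟨((x : ((P : Subgroup D) ⊓ N.comap σ : Subgroup D)) : D),
          (hker _ x.1.2.1).1 (Subtype.ext_iff.1 (Subtype.ext_iff.1 (MonoidHom.mem_ker.1 x.2) :
            (⟨σ (x.1 : D), x.1.2.2⟩ : N) = 1))⟩
        invFun := fun x => ⟨⟨x, x.2.1, mem_comap.2 (by rw [(hker x x.2.1).2 x.2]; exact one_mem _)⟩,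
          MonoidHom.mem_ker.2 (Subtype.ext (Subtype.ext ((hker x x.2.1).2 x.2)))⟩
        left_inv := fun _ => rfl
        right_inv := fun _ => rfl }
  -- a marked element
  obtain ⟨v₀, hv₀⟩ : ∃ v : (V : Subgroup N), v ≠ 1 := by
    haveI : Nontrivial (V : Subgroup N) := Finite.one_lt_card_iff_nontrivial.1 (by
      rw [hVcard]; exact Nat.one_lt_pow (by omega) (by norm_num))
    exact exists_ne 1
  have hv₀P : ((v₀ : N) : (D ⧸ Q) ⧸ Cfsg.oddCore (D ⧸ Q)) ∈
      (P₂ : Subgroup ((D ⧸ Q) ⧸ Cfsg.oddCore (D ⧸ Q))) := by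
    exact mem_subgroupOf.1 (hV.le v₀.2)
  obtain ⟨x₀, hx₀, hx₀v⟩ := (hP₂mem _).1 hv₀P
  refine eq_eight_of_local S hel hone Qs W hQW hWS hQne hn hWcard (w₀ := (x₀ : G))
    ⟨x₀, ⟨hx₀, mem_comap.2 (by rw [hx₀v]; exact (v₀ : N).2)⟩, rfl⟩ ?_
  rintro _ ⟨x, ⟨hx, hxN⟩, rfl⟩ hxQ
  have hσx : σ x ≠ 1 := fun h => hxQ ⟨x, (hker x hx).1 h, rfl⟩
  -- fusion inside `N`
  have hvinv : ∀ v : N, v ∈ (V : Subgroup N) → v * v = 1 := fun v hv => by
    rw [hV] at hv
    exact Subtype.ext (helR.sq P₂.2 (mem_subgroupOf.1 hv))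
  have hxV : (⟨σ x, hxN⟩ : N) ∈ (V : Subgroup N) := by
    rw [hV]; exact mem_subgroupOf.2 ((hP₂mem _).2 ⟨x, hx, rfl⟩)
  obtain ⟨n₁, hn₁⟩ := hfus (v₀ : N) ⟨σ x, hxN⟩ (hvinv _ v₀.2) (fun h => hv₀ (Subtype.ext h))
    (hvinv _ hxV) (fun h => hσx (congrArg Subtype.val h))
  haveI : IsMulCommutative (V : Subgroup N) := ⟨⟨fun a b => Subtype.ext (by
    have hi : ∀ z ∈ (V : Subgroup N), z⁻¹ = z := fun z hz => inv_eq_of_mul_eq_one_right (hvinv z hz)
    show (a : N) * b = b * a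
    rw [← hi _ (mul_mem a.2 b.2), mul_inv_rev, hi _ a.2, hi _ b.2])⟩⟩
  obtain ⟨n₂, hn₂, hn₂eq⟩ := V.conj_eq_normalizer_conj_of_mem (v₀ : N) n₁⁻¹ v₀.2
    (by rw [inv_inv, hn₁]; exact hxV)
  rw [inv_inv, hn₁] at hn₂eq
  set m₀ : (D ⧸ Q) ⧸ Cfsg.oddCore (D ⧸ Q) := N.subtype n₂⁻¹ with hm₀
  have hm₀N : m₀ ∈ N := (n₂⁻¹ : N).2
  have hm₀V : ∀ v : N, v ∈ (V : Subgroup N) → n₂⁻¹ * v * n₂ ∈ (V : Subgroup N) := fun v hv => by
    have := (mem_normalizer_iff.1 (inv_mem hn₂) v).1 hv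
    rwa [inv_inv] at this
  -- correct `m₀` to normalise `P₂`
  obtain ⟨m, hmN, hmP, hmx⟩ : ∃ m ∈ N, m ∈ normalizer ((P₂ : Subgroup ((D ⧸ Q) ⧸ Cfsg.oddCore (D ⧸ Q))) : Set ((D ⧸ Q) ⧸ Cfsg.oddCore (D ⧸ Q))) ∧
      m * σ x₀ * m⁻¹ = σ x := by
    set Vv : Subgroup ((D ⧸ Q) ⧸ Cfsg.oddCore (D ⧸ Q)) := (P₂ : Subgroup ((D ⧸ Q) ⧸ Cfsg.oddCore (D ⧸ Q))) ⊓ N with hVv
    set C := N ⊓ centralizer (Vv : Set ((D ⧸ Q) ⧸ Cfsg.oddCore (D ⧸ Q))) with hC'
    have hVvmem : ∀ y, ∀ hy : y ∈ N, y ∈ Vv ↔ (⟨y, hy⟩ : N) ∈ (V : Subgroup N) := fun y hy => by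
      rw [hV, mem_subgroupOf]
      exact ⟨fun h => h.1, fun h => ⟨h, hy⟩⟩
    have hm₀Vv : ∀ y ∈ Vv, m₀⁻¹ * y * m₀ ∈ Vv := fun y hy => by
      have := (mem_normalizer_iff.1 hn₂ ⟨y, hy.2⟩).1 ((hVvmem y hy.2).1 hy)
      refine (hVvmem _ (by simpa [hm₀] using (n₂ * ⟨y, hy.2⟩ * n₂⁻¹ : N).2)).2 ?_
      convert this using 1
      exact Subtype.ext (by simp [hm₀])
    have hPcomm : ∀ p ∈ (P₂ : Subgroup ((D ⧸ Q) ⧸ Cfsg.oddCore (D ⧸ Q))), ∀ y ∈ (P₂ : Subgroup ((D ⧸ Q) ⧸ Cfsg.oddCore (D ⧸ Q))), p * y = y * p :=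
      fun p hp y hy => helR.comm P₂.2 hp hy
    have hsubH : ∀ p ∈ (P₂ : Subgroup ((D ⧸ Q) ⧸ Cfsg.oddCore (D ⧸ Q))), m₀ * p * m₀⁻¹ ∈ C ⊔ (P₂ : Subgroup ((D ⧸ Q) ⧸ Cfsg.oddCore (D ⧸ Q))) := by
      intro p hp
      have hmem : m₀ * p * m₀⁻¹ * p⁻¹ ∈ C := by
        refine ⟨?_, mem_centralizer_iff.2 fun y hy => ?_⟩
        · have : m₀ * (p * m₀⁻¹ * p⁻¹) ∈ N := N.mul_mem hm₀N (hN.conj_mem _ (N.inv_mem hm₀N) p)
          simpa [mul_assoc] using this
        · have h1 : Commute (m₀ * p * m₀⁻¹) y := by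
            have h := (Commute.conj_iff m₀).2
              (show Commute p (m₀⁻¹ * y * m₀) from hPcomm p hp _ (hm₀Vv y hy).1)
            rwa [show m₀ * (m₀⁻¹ * y * m₀) * m₀⁻¹ = y by group] at h
          have h2 : Commute p⁻¹ y := (show Commute p y from hPcomm p hp y hy.1).inv_left
          exact (h1.mul_left h2).symm.eq
      rw [show m₀ * p * m₀⁻¹ = (m₀ * p * m₀⁻¹ * p⁻¹) * p by group]
      exact mul_mem_sup hmem hp
    have hP₂N : (P₂ : Subgroup ((D ⧸ Q) ⧸ Cfsg.oddCore (D ⧸ Q))) ≤ normalizer (C : Set ((D ⧸ Q) ⧸ Cfsg.oddCore (D ⧸ Q))) := by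
      intro p hp
      refine mem_normalizer_iff.2 fun c => ?_
      have aux : ∀ q ∈ (P₂ : Subgroup ((D ⧸ Q) ⧸ Cfsg.oddCore (D ⧸ Q))), ∀ c ∈ C, q * c * q⁻¹ ∈ C := fun q hq c hc =>
        ⟨hN.conj_mem c hc.1 q, mem_centralizer_iff.2 fun y hy => by
          have h := (Commute.conj_iff q).2 (show Commute c y from (mem_centralizer_iff.1 hc.2 y hy).symm)
          rw [show q * y * q⁻¹ = y by rw [hPcomm q hq y hy.1, mul_inv_cancel_right]] at h
          exact h.symm.eq⟩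
      refine ⟨aux p hp c, fun h => ?_⟩
      have := aux p⁻¹ (inv_mem hp) _ h
      rwa [show p⁻¹ * (p * c * p⁻¹) * p⁻¹⁻¹ = c by group] at this
    set H := C ⊔ (P₂ : Subgroup ((D ⧸ Q) ⧸ Cfsg.oddCore (D ⧸ Q))) with hH
    have h2H : ((m₀ • P₂ : Sylow 2 _) : Subgroup _) ≤ H := by
      rintro _ ⟨p, hp, rfl⟩
      exact hsubH p hp
    obtain ⟨⟨h, hh⟩, hheq⟩ := MulAction.exists_smul_eq H
      ((m₀ • P₂).subtype h2H) (P₂.subtype le_sup_right)
    obtain ⟨c, hc, p, hp, rfl⟩ : ∃ c ∈ C, ∃ p ∈ (P₂ : Subgroup ((D ⧸ Q) ⧸ Cfsg.oddCore (D ⧸ Q))), p * c = h := by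
      have h' := hh
      rw [hH, sup_comm, ← SetLike.mem_coe, Subgroup.coe_mul_of_left_le_normalizer_right _ _ hP₂N] at h'
      obtain ⟨p, hp, c, hc, rfl⟩ := h'
      exact ⟨c, hc, p, hp, rfl⟩
    have hfix : (p * c * m₀) • P₂ = P₂ := by
      simp_rw [Sylow.smul_subtype, Subgroup.smul_def, smul_smul] at hheq
      exact Sylow.subtype_injective hheq
    have hfix' : (c * m₀) • P₂ = P₂ := by
      have hp' : p⁻¹ • P₂ = P₂ := Sylow.smul_eq_iff_mem_normalizer.2 (le_normalizer (inv_mem hp))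
      calc (c * m₀) • P₂ = p⁻¹ • ((p * c * m₀) • P₂) := by rw [smul_smul]; congr 1; group
        _ = P₂ := by rw [hfix, hp']
    refine ⟨c * m₀, N.mul_mem hc.1 hm₀N, Sylow.smul_eq_iff_mem_normalizer.1 hfix', ?_⟩
    have h1 : m₀ * σ x₀ * m₀⁻¹ = σ x := by
      rw [hx₀v, show σ x = ((⟨σ x, hxN⟩ : N) : _) from rfl, hn₂eq, hm₀]
      simp
    rw [show c * m₀ * σ x₀ * (c * m₀)⁻¹ = c * (m₀ * σ x₀ * m₀⁻¹) * c⁻¹ by group, h1,
      ← mem_centralizer_iff.1 hc.2 (σ x) ⟨(hP₂mem _).2 ⟨x, hx, rfl⟩, hxN⟩, mul_inv_cancel_right]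
  -- lift to the normaliser of `S`
  obtain ⟨d, hd⟩ := hσs m
  set K := (P₂ : Subgroup ((D ⧸ Q) ⧸ Cfsg.oddCore (D ⧸ Q))).comap σ with hK
  have hPK : (P : Subgroup D) ≤ K := fun y hy => (hP₂mem _).2 ⟨y, hy, rfl⟩
  have hdK : ((d • P : Sylow 2 D) : Subgroup D) ≤ K := by
    rintro _ ⟨y, hy, rfl⟩
    show σ (d * y * d⁻¹) ∈ (P₂ : Subgroup ((D ⧸ Q) ⧸ Cfsg.oddCore (D ⧸ Q)))
    rw [map_mul, map_mul, map_inv, hd]
    exact (mem_normalizer_iff.1 hmP _).1 ((hP₂mem _).2 ⟨y, hy, rfl⟩)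
  obtain ⟨⟨k, hk⟩, hkeq⟩ := MulAction.exists_smul_eq K ((d • P).subtype hdK) (P.subtype hPK)
  simp_rw [Sylow.smul_subtype, Subgroup.smul_def, smul_smul] at hkeq
  have hfix : (k * d) • P = P := Sylow.subtype_injective hkeq
  have hnorm : k * d ∈ normalizer ((P : Subgroup D) : Set D) :=
    Sylow.smul_eq_iff_mem_normalizer.1 hfix
  have hact : ∀ y ∈ (P : Subgroup D), σ (k * d * y * (k * d)⁻¹) = m * σ y * m⁻¹ := fun y hy => by
    have hyP : m * σ y * m⁻¹ ∈ (P₂ : Subgroup ((D ⧸ Q) ⧸ Cfsg.oddCore (D ⧸ Q))) :=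
      (mem_normalizer_iff.1 hmP _).1 ((hP₂mem _).2 ⟨y, hy, rfl⟩)
    have hcomm := helR.comm P₂.2 hk hyP
    simp only [map_mul, map_inv, hd]
    calc σ k * m * σ y * (σ k * m)⁻¹ = σ k * (m * σ y * m⁻¹) * (σ k)⁻¹ := by group
      _ = m * σ y * m⁻¹ := by rw [hcomm, mul_inv_cancel_right]
  refine ⟨((k * d : D) : G), ?_, ?_, fun y hy => ?_, ?_⟩
  · rw [mem_normalizer_iff]
    intro y
    constructor
    · intro hy
      exact (mem_normalizer_iff.1 hnorm ⟨y, hSD hy⟩).1 hy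
    · intro hy
      have hyD : y ∈ D := by
        have := D.mul_mem (D.mul_mem (D.inv_mem (k * d).2) (hSD hy)) (k * d).2
        simpa [mul_assoc] using this
      exact (mem_normalizer_iff.1 hnorm ⟨y, hyD⟩).2 hy
  · rintro _ ⟨y, hy, rfl⟩
    exact congrArg Subtype.val (show (k * d) * y * (k * d)⁻¹ = y by
      rw [mem_center_iff.1 hy.2 (k * d), mul_inv_cancel_right])
  · refine ⟨k * d * ⟨y, hSD hy⟩ * (k * d)⁻¹ * (⟨y, hSD hy⟩ : D)⁻¹, ⟨?_, mem_comap.2 ?_⟩, rfl⟩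
    · exact (P : Subgroup D).mul_mem ((mem_normalizer_iff.1 hnorm _).1 hy) ((P : Subgroup D).inv_mem hy)
    · rw [map_mul, map_inv, hact ⟨y, hSD hy⟩ hy]
      have : m * (σ ⟨y, hSD hy⟩ * m⁻¹ * (σ ⟨y, hSD hy⟩)⁻¹) ∈ N :=
        N.mul_mem hmN (hN.conj_mem _ (N.inv_mem hmN) _)
      simpa [mul_assoc] using this
  · refine ⟨(k * d * x₀ * (k * d)⁻¹)⁻¹ * x, ?_, rfl⟩
    have hmem : k * d * x₀ * (k * d)⁻¹ ∈ (P : Subgroup D) := (mem_normalizer_iff.1 hnorm _).1 hx₀
    refine (hker _ (mul_mem (inv_mem hmem) hx)).1 ?_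
    rw [map_mul, map_inv, hact _ hx₀, hmx, inv_mul_cancel]

/-- The involution centralizers are solvable when the Sylow order is not 8. -/
theorem solvable_centralizers (S : Sylow 2 G) (hel : Elem2 G) (hone : OneClass G)
    (h8 : Nat.card S ≠ 8) (t : G) (ht : orderOf t = 2) :
    Group.IsSolvable (centralizer ({t} : Set G)) := by
  haveI : Fact (Nat.Prime 2) := ⟨Nat.prime_two⟩
  have main : ∀ (c : ℕ) (X : Subgroup G), X ≤ (S : Subgroup G) → X ≠ ⊥ →
      Nat.card (centralizer (X : Set G)) = c → Group.IsSolvable (centralizer (X : Set G)) := by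
    intro c
    induction c using Nat.strong_induction_on with
    | _ c ih =>
      intro X hXS hX hc
      by_contra hns
      exact h8 (descent S hel hone X hXS hX hns fun Y hY hY1 hlt => ih _ (hc ▸ hlt) Y hY hY1 rfl)
  obtain ⟨T, hT⟩ := (IsPGroup.of_card (p := 2) (G := zpowers t) (n := 1) (by
    rw [Nat.card_zpowers, ht, pow_one])).exists_le_sylow
  obtain ⟨g, hg⟩ := MulAction.exists_smul_eq G T S
  have hs : g * t * g⁻¹ ∈ (S : Subgroup G) := by
    rw [← hg]; exact ⟨t, hT (mem_zpowers t), rfl⟩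
  haveI := main _ _ (zpowers_le.2 hs) (zpowers_ne_bot.2 fun h => by
    rw [conj_eq_one_iff.1 h, orderOf_one] at ht; omega) rfl
  refine Group.isSolvable_of_isSolvable_injective (f := ({
    toFun := fun c => ⟨g * (c : G) * g⁻¹, mem_centralizer_iff.2 ?_⟩
    map_one' := Subtype.ext (by simp)
    map_mul' := fun a b => Subtype.ext (by simp [mul_assoc]) } :
      centralizer ({t} : Set G) →* centralizer ((zpowers (g * t * g⁻¹) : Subgroup G) : Set G)))
    fun a b hab => by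
      simp only [MonoidHom.coe_mk, OneHom.coe_mk, Subtype.mk.injEq] at hab
      exact Subtype.ext (mul_left_cancel (mul_right_cancel hab))
  intro w hw
  obtain ⟨j, rfl⟩ := mem_zpowers_iff.1 hw
  exact (Commute.zpow_left ((Commute.conj_iff g).2
    (mem_centralizer_singleton_iff.1 c.2 : Commute (c : G) t).symm) j).eq

end CfsgLib.ConstDrop
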