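import Cfsg.Agent.ConstDrop.Automizer
import Cfsg.Agent.BlocksB.PrincipalNorm
import Cfsg.Agent.Char.Products
import Cfsg.Agent.Blocks.Transport

/-!
A central involution with elementary abelian Sylow 2-subgroups splits off, and then the principal
2-block is two copies of the one of the complement.
-/

set_option autoImplicit false
set_option linter.unusedSectionVars false
set_option linter.style.haveILetI false

namespace CfsgLib.ConstDrop

open Cfsg Finset CfsgLib.Block CfsgLib.Block.Chr CfsgLib.Char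
open scoped ComplexConjugate
open scoped Classical

universe u

variable {C : Type u} [Group C]

/-- The complement of a central involution. -/
theorem exists_half [Finite C] (hel : Elem2 C) (P : Sylow 2 C) {z : C}
    (hz : z ∈ Subgroup.center C) (hz2 : orderOf z = 2) :
    ∃ K : Subgroup C, K.Normal ∧ z ∉ K ∧ ∀ c : C, c ∈ K ∨ z * c ∈ K := by
  haveI : Fact (Nat.Prime 2) := ⟨Nat.prime_two⟩
  haveI hPc := hel.isMulCommutative P
  letI : CommGroup (P : Subgroup C) :=
    { (inferInstance : Group (P : Subgroup C)) with mul_comm := fun a b => hPc.is_comm.comm a b }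
  have hzP : z ∈ (P : Subgroup C) := by
    haveI hn : (Subgroup.zpowers z).Normal := ⟨fun w hw g => by
      obtain ⟨j, rfl⟩ := Subgroup.mem_zpowers_iff.1 hw
      rw [Subgroup.mem_center_iff.1 (zpow_mem hz j) g, mul_inv_cancel_right]
      exact Subgroup.mem_zpowers_iff.2 ⟨j, rfl⟩⟩
    exact IsPGroup.le_sylow_of_normal (IsPGroup.of_card (p := 2) (G := Subgroup.zpowers z) (n := 1)
      (by rw [Nat.card_zpowers, hz2, pow_one])) P (Subgroup.mem_zpowers z)
  have hz1 : (⟨z, hzP⟩ : (P : Subgroup C)) ≠ 1 := fun h => by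
    rw [show z = 1 from congrArg Subtype.val h, orderOf_one] at hz2
    omega
  obtain ⟨l, hl⟩ := CommGroup.exists_apply_ne_one_of_hasEnoughRootsOfUnity (P : Subgroup C) ℂ hz1
  set τ := MonoidHom.transfer l with hτ
  have hsq : ∀ x : (P : Subgroup C), l x = 1 ∨ l x = -1 := by
    intro x
    have h : l x * l x = 1 := by
      rw [← map_mul, show x * x = 1 from Subtype.ext (hel.sq P.2 x.2), map_one]
    rcases mul_self_eq_one_iff.1 (show ((l x : ℂˣ) : ℂ) * (l x : ℂˣ) = 1 by
      rw [← Units.val_mul, h, Units.val_one]) with h' | h'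
    · exact Or.inl (Units.ext h')
    · exact Or.inr (Units.ext (by rw [h', Units.val_neg, Units.val_one]))
  have hval : ∀ c : C, τ c = 1 ∨ τ c = -1 := by
    intro c
    rw [hτ, MonoidHom.transfer_def _ default]
    simp only [Subgroup.leftTransversals.diff]
    refine Finset.prod_induction _ (fun w : ℂˣ => w = 1 ∨ w = -1) ?_ (Or.inl rfl) fun q _ => hsq _
    rintro a b (rfl | rfl) (rfl | rfl) <;> simp
  have hτz : τ z = -1 := by
    have hkey : ∀ (k : ℕ) (g₀ : C), g₀⁻¹ * z ^ k * g₀ ∈ (P : Subgroup C) → g₀⁻¹ * z ^ k * g₀ = z ^ k :=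
      fun k g₀ _ => by
        rw [Subgroup.mem_center_iff.1 (pow_mem hz k) g₀⁻¹, inv_mul_cancel_right]
    rw [hτ, MonoidHom.transfer_eq_pow l z hkey]
    obtain ⟨m, hm⟩ : ∃ m, (P : Subgroup C).index = 2 * m + 1 :=
      Nat.odd_iff.2 (Nat.two_dvd_ne_zero.1 P.not_dvd_index)
    have hpow : z ^ (P : Subgroup C).index = z := by
      rw [hm, pow_succ, pow_mul, show z ^ 2 = 1 by rw [← hz2]; exact pow_orderOf_eq_one z, one_pow,
        one_mul]
    rw [show (⟨z ^ (P : Subgroup C).index, _⟩ : (P : Subgroup C)) = ⟨z, hzP⟩ from Subtype.ext hpow]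
    exact (hsq _).resolve_left hl
  refine ⟨τ.ker, inferInstance, fun h => ?_, fun c => ?_⟩
  · rw [MonoidHom.mem_ker, hτz] at h
    have := congrArg Units.val h
    norm_num at this
  · rcases hval c with h | h
    · exact Or.inl (MonoidHom.mem_ker.2 h)
    · exact Or.inr (MonoidHom.mem_ker.2 (by rw [map_mul, hτz, h, neg_mul_neg, one_mul]))

variable [Fintype C] {M : Ideal AlgInt} [M.IsPrime]

/-- The principal block of a group with a split central involution. -/
theorem block_split (hM : IsPModular 2 M) (K : Subgroup C) [Fintype K] {z : C}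
    (hz : z ∈ Subgroup.center C) (hz2 : orderOf z = 2) (hzK : z ∉ K)
    (hsplit : ∀ c : C, c ∈ K ∨ z * c ∈ K) [Fintype (IrrCharacter C)] [Fintype (IrrCharacter K)] :
    (∀ ψ ∈ principalBlock M C, ∃ ξ ∈ principalBlock M K, ∀ k : K, (ψ : C → ℂ) k = (ξ : K → ℂ) k) ∧
    ∀ k k' : K, ∑ ψ ∈ univ.filter (· ∈ principalBlock M C), (ψ : C → ℂ) k * conj ((ψ : C → ℂ) k') =
      2 * ∑ ξ ∈ univ.filter (· ∈ principalBlock M K), (ξ : K → ℂ) k * conj ((ξ : K → ℂ) k') := by
  haveI : Fact (Nat.Prime 2) := ⟨Nat.prime_two⟩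
  set Z := Subgroup.zpowers z
  haveI : Fintype Z := Fintype.ofFinite _
  letI := irrFintype (G := Z)
  have hZcard : Nat.card Z = 2 := by rw [Nat.card_zpowers, hz2]
  have hcomm : ∀ (a : Z) (k : K), Commute (a : C) (k : C) := fun a k => by
    obtain ⟨j, hj⟩ := Subgroup.mem_zpowers_iff.1 a.2
    rw [← hj]
    exact ((show Commute z (k : C) from (Subgroup.mem_center_iff.1 hz k).symm)).zpow_left j
  have hZmem : ∀ a : C, a ∈ Z → a = 1 ∨ a = z := fun a ha => by
    obtain ⟨j, rfl⟩ := Subgroup.mem_zpowers_iff.1 ha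
    rw [← zpow_mod_orderOf, hz2]
    rcases Int.emod_two_eq_zero_or_one j with h | h <;> simp [h]
  let f : Z × K →* C :=
    { toFun := fun w => (w.1 : C) * (w.2 : C)
      map_one' := by simp
      map_mul' := fun a b => by
        show ((a.1 : C) * b.1) * ((a.2 : C) * b.2) = (a.1 : C) * a.2 * ((b.1 : C) * b.2)
        rw [mul_assoc, mul_assoc, ← mul_assoc (b.1 : C), (hcomm b.1 a.2).eq, mul_assoc] }
  have hf : Function.Bijective f := by
    refine ⟨(injective_iff_map_eq_one f).2 fun w hw => ?_, fun c => ?_⟩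
    · have hw' : (w.1 : C) * w.2 = 1 := hw
      rcases hZmem _ w.1.2 with h | h
      · rw [h, one_mul] at hw'
        exact Prod.ext (Subtype.ext h) (Subtype.ext hw')
      · exfalso
        rw [h, mul_eq_one_iff_eq_inv] at hw'
        exact hzK (by rw [hw']; exact K.inv_mem w.2.2)
    · rcases hsplit c with h | h
      · exact ⟨(1, ⟨c, h⟩), one_mul c⟩
      · exact ⟨(⟨z, Subgroup.mem_zpowers z⟩, ⟨z * c, h⟩), by
          show z * (z * c) = c
          rw [← mul_assoc, show z * z = 1 by rw [← sq, ← hz2]; exact pow_orderOf_eq_one z, one_mul]⟩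
  let e : Z × K ≃* C := MulEquiv.ofBijective f hf
  let Φ : IrrCharacter Z × IrrCharacter K → IrrCharacter C := fun w =>
    irrComp e.symm ⟨fun x => (w.1 : Z → ℂ) x.1 * (w.2 : K → ℂ) x.2,
      isIrrCharacter_prod w.1.2 w.2.2⟩
  have hΦ : ∀ w (a : Z) (k : K), (Φ w : C → ℂ) ((a : C) * k) =
      (w.1 : Z → ℂ) a * (w.2 : K → ℂ) k := fun w a k => by
    have : e.symm ((a : C) * k) = (a, k) := e.injective (by rw [e.apply_symm_apply]; rfl)
    simp only [Φ, irrComp_coe, this]
  have hone : ∀ a : IrrCharacter Z, (a : Z → ℂ) 1 = 1 := fun a =>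
    IsIrrCharacter.apply_one_eq_one a.2 fun x y => Subtype.ext (by
      obtain ⟨i, hi⟩ := Subgroup.mem_zpowers_iff.1 x.2
      obtain ⟨j, hj⟩ := Subgroup.mem_zpowers_iff.1 y.2
      show (x : C) * y = y * x
      rw [← hi, ← hj, ← zpow_add, ← zpow_add, add_comm])
  have hΦK : ∀ w (k : K), (Φ w : C → ℂ) k = (w.2 : K → ℂ) k := fun w k => by
    rw [show (k : C) = ((1 : Z) : C) * k from (one_mul _).symm, hΦ, hone, one_mul]
  have hinj : Function.Injective Φ := by
    intro w w' h
    have h2 : w.2 = w'.2 := Subtype.ext (funext fun k => by rw [← hΦK w k, ← hΦK w' k, h])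
    refine Prod.ext (Subtype.ext (funext fun a => ?_)) h2
    have e1 := hΦ w a 1
    rw [h, hΦ, h2] at e1
    exact mul_right_cancel₀ (irr_one_ne_zero w'.2) e1.symm
  have hsurj : Function.Surjective Φ := by
    intro ψ
    obtain ⟨φ, ξ, hφ, hξ, h⟩ := (isIrrCharacter_prod_iff _).1 (irrComp e ψ).2
    refine ⟨(⟨φ, hφ⟩, ⟨ξ, hξ⟩), Subtype.ext (funext fun c => ?_)⟩
    have h' := congrFun h (e.symm c)
    simp only [irrComp_coe, e.apply_symm_apply] at h'
    simp only [Φ, irrComp_coe]
    exact h'.symm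
  -- regular elements lie in `K`
  have hregK : ∀ c : C, ¬ 2 ∣ orderOf c → c ∈ K := by
    intro c hc
    obtain ⟨⟨a, k⟩, rfl⟩ := hf.2 c
    show (a : C) * k ∈ K
    rcases hZmem _ a.2 with h | h
    · rw [h, one_mul]; exact k.2
    · exfalso
      apply hc
      rw [show f (a, k) = (a : C) * k from rfl, h]
      have h1 : (z * (k : C)) ^ orderOf (z * (k : C)) = 1 := pow_orderOf_eq_one _
      by_contra hodd
      rw [((show Commute z (k : C) from (Subgroup.mem_center_iff.1 hz k).symm)).mul_pow] at h1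
      have h2 : z ^ orderOf (z * (k : C)) = z := by
        obtain ⟨m, hm⟩ : ∃ m, orderOf (z * (k : C)) = 2 * m + 1 := Nat.odd_iff.2 (by omega)
        rw [hm, pow_succ, pow_mul, show z ^ 2 = 1 by rw [← hz2]; exact pow_orderOf_eq_one z, one_pow,
          one_mul]
      rw [h2, mul_eq_one_iff_eq_inv] at h1
      exact hzK (by rw [h1]; exact K.inv_mem (K.pow_mem k.2 _))
  have hmem : ∀ w, Φ w ∈ principalBlock M C ↔ w.2 ∈ principalBlock M K := by
    intro w
    rw [PrincipalNorm.mem_principal_iff hM, PrincipalNorm.mem_principal_iff hM,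
      show PrincipalNorm.regSum 2 (Φ w : C → ℂ) = PrincipalNorm.regSum 2 (w.2 : K → ℂ) from ?_]
    rw [PrincipalNorm.regSum, PrincipalNorm.regSum]
    refine (sum_bij (fun (k : K) _ => (k : C)) (fun k hk => ?_) (fun a _ b _ h => Subtype.ext h)
      (fun c hc => ?_) fun k _ => (hΦK w k).symm).symm
    · simp only [mem_filter, mem_univ, true_and] at hk ⊢
      rwa [Subgroup.orderOf_coe]
    · simp only [mem_filter, mem_univ, true_and] at hc
      exact ⟨⟨c, hregK c hc⟩, by simpa using hc, rfl⟩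
  refine ⟨fun ψ hψ => ?_, fun k k' => ?_⟩
  · obtain ⟨w, rfl⟩ := hsurj ψ
    exact ⟨w.2, (hmem w).1 hψ, hΦK w⟩
  · have hcardZ : Fintype.card (IrrCharacter Z) = 2 := by
      rw [← Nat.card_eq_fintype_card, card_irr_eq_card_conjClasses, ← hZcard]
      refine (Nat.card_congr (Equiv.ofBijective ConjClasses.mk
        ⟨fun a b hab => ?_, ConjClasses.mk_surjective⟩)).symm
      obtain ⟨g, hg⟩ := isConj_iff.1 (ConjClasses.mk_eq_mk_iff_isConj.1 hab)
      rw [← hg]
      refine Subtype.ext ?_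
      obtain ⟨i, hi⟩ := Subgroup.mem_zpowers_iff.1 a.2
      obtain ⟨j, hj⟩ := Subgroup.mem_zpowers_iff.1 g.2
      simp only [Subgroup.coe_mul, Subgroup.coe_inv, ← hi, ← hj]
      rw [← zpow_add, ← zpow_neg, ← zpow_add]
      congr 1
      ring
    rw [sum_filter, sum_filter, ← (show Function.Bijective Φ from ⟨hinj, hsurj⟩).sum_comp,
      Fintype.sum_prod_type]
    simp only [hmem, hΦK, sum_const, Finset.card_univ, hcardZ, nsmul_eq_mul, Nat.cast_ofNat]

end CfsgLib.ConstDrop
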