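import Cfsg.Agent.ConstDrop.Global
import Cfsg.Agent.ConstDrop.Split
import Cfsg.Agent.ConstDrop.Columns
import Cfsg.Agent.ConstDrop.Descent
import Cfsg.Agent.Blocks.KleinRank

/-!
A constant drop is impossible when the Sylow 2-subgroup has order 8 and its automizer in the
centralizer of an involution is nontrivial; hence all involution centralizers are solvable.
-/

set_option autoImplicit false
set_option linter.unusedSectionVars false
set_option linter.style.haveILetI false
set_option maxHeartbeats 1600000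

namespace CfsgLib.ConstDrop

open Cfsg Finset CfsgLib.Block CfsgLib.Block.Chr CfsgLib.Char
open scoped ComplexConjugate
open scoped Classical

universe u

/-- The complement has a Klein Sylow subgroup and one class of involutions. -/
theorem half_klein {C : Type u} [Group C] [Finite C] (hel : Elem2 C) (P : Sylow 2 C)
    (hP8 : Nat.card P = 8) {z : C} (hz : z ∈ Subgroup.center C) (hz2 : orderOf z = 2)
    (K : Subgroup C) [K.Normal] (hzK : z ∉ K) (hsplit : ∀ c : C, c ∈ K ∨ z * c ∈ K)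
    {g : C} (hgN : g ∈ Subgroup.normalizer ((P : Subgroup C) : Set C))
    (hg : ∃ x ∈ (P : Subgroup C), g * x * g⁻¹ ≠ x) :
    ∃ Q : Sylow 2 K, Nat.card Q = 4 ∧ (∀ x : Q, x * x = 1) ∧
      ∀ a b : K, orderOf a = 2 → orderOf b = 2 → IsConj a b := by
  haveI : Fact (Nat.Prime 2) := ⟨Nat.prime_two⟩
  haveI : Fintype C := Fintype.ofFinite C
  have hzz : z * z = 1 := by rw [← sq, ← hz2]; exact pow_orderOf_eq_one z
  have hzP : z ∈ (P : Subgroup C) := by
    haveI hn : (Subgroup.zpowers z).Normal := ⟨fun w hw g => by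
      obtain ⟨j, rfl⟩ := Subgroup.mem_zpowers_iff.1 hw
      rw [Subgroup.mem_center_iff.1 (zpow_mem hz j) g, mul_inv_cancel_right]
      exact Subgroup.mem_zpowers_iff.2 ⟨j, rfl⟩⟩
    exact IsPGroup.le_sylow_of_normal (IsPGroup.of_card (p := 2) (G := Subgroup.zpowers z) (n := 1)
      (by rw [Nat.card_zpowers, hz2, pow_one])) P (Subgroup.mem_zpowers z)
  obtain ⟨Q, hQ⟩ := ZCGroup.exists_sylow_inf P K
  have hQmem : ∀ x : K, x ∈ (Q : Subgroup K) ↔ (x : C) ∈ (P : Subgroup C) := fun x => by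
    rw [hQ, Subgroup.mem_subgroupOf]
  have hQcard : Nat.card Q = 4 := by
    have he : Nat.card (P : Subgroup C) = Nat.card (↥(Q : Subgroup K) × Bool) := by
      refine (Nat.card_congr (Equiv.ofBijective
        (fun w : ↥(Q : Subgroup K) × Bool => (⟨(if w.2 then z else 1) * ((w.1 : K) : C), by
          refine (P : Subgroup C).mul_mem ?_ ((hQmem _).1 w.1.2)
          split_ifs
          · exact hzP
          · exact one_mem _⟩ : (P : Subgroup C))) ⟨?_, ?_⟩)).symm
      · rintro ⟨a, i⟩ ⟨b, j⟩ h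
        have h' := congrArg Subtype.val h
        cases i <;> cases j <;> simp only [Bool.false_eq_true, if_false, if_true, one_mul] at h'
        · exact Prod.ext (Subtype.ext (Subtype.ext h')) rfl
        · exfalso
          exact hzK ((K.mul_mem_cancel_right (b : K).2).1 (h' ▸ (a : K).2))
        · exfalso
          exact hzK ((K.mul_mem_cancel_right (a : K).2).1 (h'.symm ▸ (b : K).2))
        · exact Prod.ext (Subtype.ext (Subtype.ext (mul_left_cancel h'))) rfl
      · intro x
        rcases hsplit x with h | h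
        · exact ⟨(⟨⟨x, h⟩, (hQmem _).2 x.2⟩, false), Subtype.ext (one_mul _)⟩
        · refine ⟨(⟨⟨z * x, h⟩, (hQmem _).2 (mul_mem hzP x.2)⟩, true), Subtype.ext ?_⟩
          show z * (z * (x : C)) = x
          rw [← mul_assoc, hzz, one_mul]
    rw [Nat.card_prod, hP8, Nat.card_eq_fintype_card (α := Bool), Fintype.card_bool] at he
    omega
  have hexp : ∀ x : Q, x * x = 1 := fun x =>
    Subtype.ext (Subtype.ext (hel.sq P.2 ((hQmem _).1 x.2)))
  refine ⟨Q, hQcard, hexp, ?_⟩
  -- the odd part of `g`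
  obtain ⟨a, b, hab, -, ⟨na, hna⟩, -, -, hb, -, haz, hbz⟩ := exists_pPart Nat.prime_two g
  have haP : a ∈ (P : Subgroup C) := by
    have haN : a ∈ Subgroup.normalizer ((P : Subgroup C) : Set C) :=
      Subgroup.zpowers_le.2 hgN haz
    have hp : IsPGroup 2 (Subgroup.zpowers a) := by
      obtain ⟨i, -, hi⟩ := (Nat.dvd_prime_pow Nat.prime_two).1 (orderOf_dvd_of_pow_eq_one hna)
      exact IsPGroup.of_card (n := i) (by rw [Nat.card_zpowers, hi])
    have h := (hp.inf_normalizer_sylow P).le ⟨Subgroup.mem_zpowers a, haN⟩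
    exact h.2
  have hbN : b ∈ Subgroup.normalizer ((P : Subgroup C) : Set C) := Subgroup.zpowers_le.2 hgN hbz
  obtain ⟨x, hx, hgx⟩ := hg
  have hbx : b * x * b⁻¹ ≠ x := by
    intro h
    apply hgx
    rw [← hab, show a * b * x * (a * b)⁻¹ = a * (b * x * b⁻¹) * a⁻¹ by group, h,
      hel.comm P.2 haP hx, mul_inv_cancel_right]
  obtain ⟨m, hm⟩ : ∃ m, orderOf b = 2 * m + 1 := Nat.odd_iff.2 (by omega)
  have hzpow : z ^ orderOf b = z := by
    rw [hm, pow_succ, pow_mul, sq, hzz, one_pow, one_mul]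
  have hbK : b ∈ K := by
    refine (hsplit b).resolve_right fun h => hzK ?_
    have h1 := K.pow_mem h (orderOf b)
    rwa [(show Commute z b from (Subgroup.mem_center_iff.1 hz b).symm).mul_pow, pow_orderOf_eq_one,
      mul_one, hzpow] at h1
  -- the marked element
  obtain ⟨x₀, hx₀K, hx₀P, hx₀b⟩ : ∃ y, y ∈ K ∧ y ∈ (P : Subgroup C) ∧ b * y * b⁻¹ ≠ y := by
    rcases hsplit x with h | h
    · exact ⟨x, h, hx, hbx⟩
    · refine ⟨z * x, h, mul_mem hzP hx, fun e => hbx ?_⟩
      rw [show b * (z * x) * b⁻¹ = (b * z) * x * b⁻¹ by group, Subgroup.mem_center_iff.1 hz b,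
        mul_assoc, mul_assoc] at e
      rw [mul_assoc]
      exact mul_left_cancel e
  set q₀ : K := ⟨x₀, hx₀K⟩
  set β : K := ⟨b, hbK⟩
  have hq₀ : q₀ ∈ (Q : Subgroup K) := (hQmem _).2 hx₀P
  have hconjQ : ∀ y : K, y ∈ (Q : Subgroup K) → β * y * β⁻¹ ∈ (Q : Subgroup K) := fun y hy =>
    (hQmem _).2 ((Subgroup.mem_normalizer_iff.1 hbN _).1 ((hQmem _).1 hy))
  set q₁ := β * q₀ * β⁻¹
  set q₂ := β * q₁ * β⁻¹
  have h01 : q₁ ≠ q₀ := fun h => hx₀b (congrArg Subtype.val h)
  have h12 : q₂ ≠ q₁ := fun h => h01 (mul_left_cancel (mul_right_cancel h))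
  have h02 : q₂ ≠ q₀ := by
    intro h
    apply hx₀b
    have hc : Commute (b ^ 2) x₀ := by
      have := congrArg Subtype.val h
      simp only [q₁, q₂, q₀, β, Subgroup.coe_mul, Subgroup.coe_inv] at this
      rw [commute_iff_eq, ← mul_inv_eq_iff_eq_mul, sq, mul_inv_rev]
      simpa [mul_assoc] using this
    have hb2 : b = (b ^ 2) ^ (m + 1) := by
      rw [← pow_mul, show 2 * (m + 1) = orderOf b + 1 by omega, pow_succ, pow_orderOf_eq_one, one_mul]
    have hc' : Commute b x₀ := hb2 ▸ hc.pow_left (m + 1)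
    rw [hc'.eq, mul_inv_cancel_right]
  have hq₀1 : q₀ ≠ 1 := fun h => h01 (by simp [q₁, h])
  have hq₁1 : q₁ ≠ 1 := fun h => hq₀1 (conj_eq_one_iff.1 h)
  have hq₂1 : q₂ ≠ 1 := fun h => hq₁1 (conj_eq_one_iff.1 h)
  haveI : Fintype (Q : Subgroup K) := Fintype.ofFinite _
  have hall : ∀ y : K, y ∈ (Q : Subgroup K) → y ≠ 1 → IsConj q₀ y := by
    intro y hy hy1
    by_cases e0 : y = q₀
    · rw [e0]
    by_cases e1 : y = q₁
    · rw [e1]; exact isConj_iff.2 ⟨β, rfl⟩
    by_cases e2 : y = q₂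
    · rw [e2]; exact isConj_iff.2 ⟨β * β, by simp [q₁, q₂, mul_assoc]⟩
    exfalso
    let s : Finset (Q : Subgroup K) :=
      {1, ⟨y, hy⟩, ⟨q₀, hq₀⟩, ⟨q₁, hconjQ _ hq₀⟩, ⟨q₂, hconjQ _ (hconjQ _ hq₀)⟩}
    have hs : s.card = 5 := by
      simp only [s]
      rw [card_insert_of_notMem, card_insert_of_notMem, card_insert_of_notMem, card_insert_of_notMem,
        card_singleton] <;>
        simp [Subtype.ext_iff, Ne.symm hy1, Ne.symm hq₀1, Ne.symm hq₁1, Ne.symm hq₂1, e0, e1, e2,
          Ne.symm h01, Ne.symm h02, Ne.symm h12]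
    have := s.card_le_univ
    rw [hs, ← Nat.card_eq_fintype_card, hQcard] at this
    omega
  intro c d hc hd
  have hinto : ∀ c : K, orderOf c = 2 → IsConj q₀ c := by
    intro c hc
    obtain ⟨T, hT⟩ := (IsPGroup.of_card (p := 2) (G := Subgroup.zpowers c) (n := 1) (by
      rw [Nat.card_zpowers, hc, pow_one])).exists_le_sylow
    obtain ⟨h, hh⟩ := MulAction.exists_smul_eq K T Q
    have hmem : h * c * h⁻¹ ∈ (Q : Subgroup K) := by
      rw [← hh]; exact ⟨c, hT (Subgroup.mem_zpowers c), rfl⟩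
    refine (hall _ hmem fun e => ?_).trans (isConj_iff.2 ⟨h⁻¹, by group⟩)
    rw [conj_eq_one_iff.1 e, orderOf_one] at hc
    omega
  exact (hinto c hc).symm.trans (hinto d hd)

variable {G : Type u} [Group G] [Fintype G] {M : Ideal AlgInt} [M.IsPrime]

/-- The centralizer of an element. -/
abbrev Ct (t : G) : Subgroup G := Subgroup.centralizer ({t} : Set G)

/-- The case of order 8 with a nontrivial automizer in an involution centralizer. -/
theorem eight_false [Fintype (IrrCharacter G)] (hM : IsPModular 2 M) (hel : Elem2 G) {u t v : G}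
    (h : Drop M u 8) (ht : orderOf t = 2) (huv : t * v = u) (hc' : Commute t v)
    (hv : ¬ 2 ∣ orderOf v) (P : Sylow 2 (Ct t))
    (hP8 : Nat.card P = 8) {g : Ct t}
    (hgN : g ∈ Subgroup.normalizer ((P : Subgroup (Ct t)) :
      Set (Ct t)))
    (hg : ∃ x ∈ (P : Subgroup (Ct t)), g * x * g⁻¹ ≠ x) : False := by
  haveI : Fact (Nat.Prime 2) := ⟨Nat.prime_two⟩
  haveI : Fintype (Ct t) := Fintype.ofFinite _
  letI := irrFintype (G := (Ct t))
  have ht' : orderOf t = 2 ^ 1 := by rw [ht, pow_one]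
  set tC : (Ct t) := ⟨t, Subgroup.mem_centralizer_singleton_iff.2 rfl⟩ with htC
  have htcen : tC ∈ Subgroup.center (Ct t) := Subgroup.mem_center_iff.2 fun w => Subtype.ext
    (Subgroup.mem_centralizer_singleton_iff.1 w.2)
  have htC2 : orderOf tC = 2 := by rw [Subgroup.orderOf_mk, ht]
  obtain ⟨K, hKn, htK, hsplit⟩ := exists_half (hel.sub (Ct t)) P htcen htC2
  haveI := hKn
  haveI : Fintype K := Fintype.ofFinite _
  letI := irrFintype (G := K)
  obtain ⟨Q, hQ4, hQexp, hQone⟩ := half_klein (hel.sub (Ct t)) P hP8 htcen htC2 K htK hsplit hgN hg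
  obtain ⟨hrest, hkernel⟩ := block_split (M := M) hM K htcen htC2 htK hsplit
  obtain ⟨h4, sgn, hsgn1, hsgn, hrel⟩ := klein_singular (M := M) hM Q hQ4 hQexp hQone
  set B0 := univ.filter (· ∈ principalBlock M K) with hB0
  have honeB : oneIrr K ∈ B0 := mem_filter.2 ⟨mem_univ _, oneIrr_mem_principalBlock⟩
  -- enumerate the block
  obtain ⟨x₁, x₂, x₃, hx12, hx13, hx23, herase⟩ := card_eq_three.1
    (show (B0.erase (oneIrr K)).card = 3 by rw [card_erase_of_mem honeB, h4])
  have hmem : ∀ ξ, ξ ∈ ({x₁, x₂, x₃} : Finset (IrrCharacter K)) → ξ ≠ oneIrr K ∧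
      ξ ∈ principalBlock M K := fun ξ hξ => by
    rw [← herase, mem_erase] at hξ
    exact ⟨hξ.1, (mem_filter.1 hξ.2).2⟩
  have hm1 := hmem x₁ (by simp)
  have hm2 := hmem x₂ (by simp)
  have hm3 := hmem x₃ (by simp)
  have hB0eq : B0 = {oneIrr K, x₁, x₂, x₃} := by
    rw [← insert_erase honeB, herase]
  have hsum4 : ∀ F : IrrCharacter K → ℂ, ∑ ξ ∈ B0, F ξ = F (oneIrr K) + F x₁ + F x₂ + F x₃ := by
    intro F
    rw [hB0eq, sum_insert (by simp [Ne.symm hm1.1, Ne.symm hm2.1, Ne.symm hm3.1]),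
      sum_insert (by simp [hx12, hx13]), sum_insert (by simp [hx23]), sum_singleton]
    ring
  let b : Fin 3 → K → ℂ := ![fun _ => 1, fun y => (sgn x₁ : ℂ) * (x₁ : K → ℂ) y,
    fun y => (sgn x₂ : ℂ) * (x₂ : K → ℂ) y]
  have hs2 : ∀ ξ ∈ principalBlock M K, ((sgn ξ : ℂ)) * (sgn ξ : ℂ) = 1 := fun ξ hξ => by
    rcases (hsgn ξ hξ).1 with e | e <;> simp [e]
  have hlast : ∀ y : K, ¬ 2 ∣ orderOf y →
      (sgn x₃ : ℂ) * (x₃ : K → ℂ) y = -(b 0 y + b 1 y + b 2 y) := by
    intro y hy
    have e := hrel y hy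
    rw [hsum4, hsgn1, oneIrr_apply, Int.cast_one, mul_one] at e
    simp only [b, Matrix.cons_val_zero, Matrix.cons_val_one, Matrix.cons_val_two,
      Matrix.head_cons, Matrix.tail_cons]
    linear_combination e
  -- independence on the regular elements
  have hind : ∀ a : Fin 3 → ℂ,
      (∀ y : K, ¬ 2 ∣ orderOf y → a 0 * b 0 y + a 1 * b 1 y + a 2 * b 2 y = 0) → a = 0 := by
    intro a ha
    let w : IrrCharacter K → ℂ := fun ξ => if ξ = oneIrr K then a 0 else if ξ = x₁ then a 1 * sgn x₁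
      else if ξ = x₂ then a 2 * sgn x₂ else 0
    have w0 : w (oneIrr K) = a 0 := if_pos rfl
    have w1 : w x₁ = a 1 * sgn x₁ := by simp [w, hm1.1]
    have w2 : w x₂ = a 2 * sgn x₂ := by simp [w, hm2.1, Ne.symm hx12]
    have w3 : w x₃ = 0 := by simp [w, hm3.1, Ne.symm hx13, Ne.symm hx23]
    set c : ℂ := a 0 + a 1 + a 2 with hc
    have hF : ∀ y : K, ∑ ξ ∈ B0, w ξ * (ξ : K → ℂ) y = if 2 ∣ orderOf y then c else 0 := by
      intro y
      rw [hsum4, w0, w1, w2, w3, oneIrr_apply]
      split_ifs with hy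
      · rw [(hsgn x₁ hm1.2).2 y hy, (hsgn x₂ hm2.2).2 y hy]
        linear_combination a 1 * hs2 x₁ hm1.2 + a 2 * hs2 x₂ hm2.2
      · have e := ha y hy
        simp only [b, Matrix.cons_val_zero, Matrix.cons_val_one, Matrix.cons_val_two,
          Matrix.head_cons, Matrix.tail_cons] at e
        linear_combination e
    have hw : ∀ ξ₀ ∈ B0, w ξ₀ = c * (sgn ξ₀ : ℂ) *
        ((Nat.card K : ℂ)⁻¹ * ((univ.filter fun y : K => 2 ∣ orderOf y).card : ℂ)) := by
      intro ξ₀ h₀
      have e : classInner (fun y => ∑ ξ ∈ B0, w ξ * (ξ : K → ℂ) y) (ξ₀ : K → ℂ) = w ξ₀ := by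
        simp only [classInner, sum_mul, mul_sum]
        rw [sum_comm, sum_eq_single ξ₀]
        · have h1 := classInner_irr ξ₀ ξ₀
          rw [if_pos rfl, classInner] at h1
          refine Eq.trans ?_ (mul_one (w ξ₀))
          rw [← h1, mul_sum, mul_sum]
          exact sum_congr rfl fun y _ => by ring
        · intro ξ _ hne
          have h1 := classInner_irr ξ ξ₀
          rw [if_neg hne, classInner] at h1
          refine Eq.trans ?_ (mul_zero (w ξ))
          rw [← h1, mul_sum, mul_sum]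
          exact sum_congr rfl fun y _ => by ring
        · exact fun h => absurd h₀ h
      rw [← e, classInner]
      simp only [hF, ite_mul, zero_mul]
      rw [← sum_filter, sum_congr rfl fun y hy => by
        rw [(hsgn ξ₀ (mem_filter.1 h₀).2).2 y (mem_filter.1 hy).2, map_intCast], sum_const,
        nsmul_eq_mul]
      ring
    have h3 := hw x₃ (mem_filter.2 ⟨mem_univ _, hm3.2⟩)
    rw [w3] at h3
    have hs3 : (sgn x₃ : ℂ) ≠ 0 := fun h0 => by
      have := hs2 x₃ hm3.2
      rw [h0, zero_mul] at this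
      exact zero_ne_one this
    have hcz : c * ((Nat.card K : ℂ)⁻¹ * ((univ.filter fun y : K => 2 ∣ orderOf y).card : ℂ)) = 0 := by
      apply mul_left_cancel₀ hs3
      linear_combination -h3
    have hz : ∀ ξ₀ ∈ B0, w ξ₀ = 0 := fun ξ₀ h₀ => by
      rw [hw ξ₀ h₀]
      linear_combination (sgn ξ₀ : ℂ) * hcz
    have z0 := hz _ honeB
    have z1 := hz x₁ (mem_filter.2 ⟨mem_univ _, hm1.2⟩)
    have z2 := hz x₂ (mem_filter.2 ⟨mem_univ _, hm2.2⟩)
    rw [w0] at z0
    rw [w1] at z1
    rw [w2] at z2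
    funext i
    fin_cases i
    · exact z0
    · show a 1 = 0
      linear_combination (sgn x₁ : ℂ) * z1 - a 1 * hs2 x₁ hm1.2
    · show a 2 = 0
      linear_combination (sgn x₂ : ℂ) * z2 - a 2 * hs2 x₂ hm2.2
  -- the columns
  have hone1 : ¬ 2 ∣ orderOf (1 : K) := by simp
  have hreg : ∀ y : K, ¬ 2 ∣ orderOf y → ¬ 2 ∣ orderOf (y : (Ct t)) := fun y hy => by
    rwa [Subgroup.orderOf_coe]
  have hcomb : ∀ χ : IrrCharacter G, χ ∈ principalBlock M G → ∃ c : Fin 3 → ℤ,
      ∀ y : K, ¬ 2 ∣ orderOf y → (χ : G → ℂ) (t * ((y : (Ct t)) : G)) =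
        (c 0 : ℂ) * b 0 y + (c 1 : ℂ) * b 1 y + (c 2 : ℂ) * b 2 y := by
    intro χ hχ
    -- integral combinations of the block of `K`
    let good : (K → ℂ) → Prop := fun F => ∃ c : Fin 3 → ℤ, ∀ y : K, ¬ 2 ∣ orderOf y →
      F y = (c 0 : ℂ) * b 0 y + (c 1 : ℂ) * b 1 y + (c 2 : ℂ) * b 2 y
    have gadd : ∀ F F', good F → good F' → good (F + F') := fun F F' ⟨c, hc⟩ ⟨c', hc'⟩ =>
      ⟨c + c', fun y hy => by
        simp only [Pi.add_apply, Int.cast_add, hc y hy, hc' y hy]; ring⟩
    have gsmul : ∀ (n : ℤ) F, good F → good fun y => (n : ℂ) * F y := fun n F ⟨c, hc⟩ =>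
      ⟨fun i => n * c i, fun y hy => by simp only [Int.cast_mul, hc y hy]; ring⟩
    have gbase : ∀ ξ ∈ B0, good (ξ : K → ℂ) := by
      intro ξ hξ
      rw [hB0eq] at hξ
      simp only [mem_insert, mem_singleton] at hξ
      rcases hξ with e | e | e | e <;> rw [e]
      · exact ⟨![1, 0, 0], fun y _ => by simp [b]⟩
      · refine ⟨![0, sgn x₁, 0], fun y _ => ?_⟩
        simp [b, ← mul_assoc, hs2 x₁ hm1.2]
      · refine ⟨![0, 0, sgn x₂], fun y _ => ?_⟩
        simp [b, ← mul_assoc, hs2 x₂ hm2.2]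
      · refine ⟨![-sgn x₃, -sgn x₃, -sgn x₃], fun y hy => ?_⟩
        have e := hlast y hy
        simp only [Matrix.cons_val_zero, Matrix.cons_val_one, Matrix.cons_val_two,
          Matrix.head_cons, Matrix.tail_cons, Int.cast_neg]
        linear_combination (sgn x₃ : ℂ) * e - (x₃ : K → ℂ) y * hs2 x₃ hm3.2
    -- the integral coefficients
    have hcoef : ∀ ψ : IrrCharacter (Ct t), ∃ n : ℤ,
        classInner (fun c : (Ct t) => (χ : G → ℂ) (t * (c : G))) (ψ : (Ct t) → ℂ) = n := by
      intro ψ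
      obtain ⟨n, hn⟩ := IsCharacter.exists_classInner_eq_natCast'
        (IsCharacter.restrict (isCharacter_irr χ) (Ct t)) (isCharacter_irr ψ)
      have hω : ∀ c : (Ct t), (ψ : (Ct t) → ℂ) (tC * c) = (ψ : (Ct t) → ℂ) tC / (ψ : (Ct t) → ℂ) 1 * (ψ : (Ct t) → ℂ) c :=
        fun c => IsIrrCharacter.apply_center_mul ψ.2 htcen c
      have htt : tC * tC = 1 := by rw [← sq, ← htC2]; exact pow_orderOf_eq_one tC
      have e2 : ((ψ : (Ct t) → ℂ) tC / (ψ : (Ct t) → ℂ) 1) * ((ψ : (Ct t) → ℂ) tC / (ψ : (Ct t) → ℂ) 1) = 1 := by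
        have e1 := hω tC
        rw [htt] at e1
        have h1 := irr_one_ne_zero ψ
        field_simp
        field_simp at e1
        linear_combination -e1
      have hshift : classInner (fun c : (Ct t) => (χ : G → ℂ) (t * (c : G))) (ψ : (Ct t) → ℂ) =
          conj ((ψ : (Ct t) → ℂ) tC / (ψ : (Ct t) → ℂ) 1) *
            classInner (fun c : (Ct t) => (χ : G → ℂ) (c : G)) (ψ : (Ct t) → ℂ) := by
        rw [classInner, classInner, ← mul_assoc, mul_comm _ (Nat.card (Ct t) : ℂ)⁻¹, mul_assoc]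
        congr 1
        rw [mul_sum]
        refine Fintype.sum_equiv (Equiv.mulLeft tC) _ _ fun c => ?_
        simp only [Equiv.coe_mulLeft, Subgroup.coe_mul, hω, map_mul]
        rw [htC]
        simp only
        have e2' := congrArg conj e2
        rw [map_mul, map_one] at e2'
        linear_combination (-((χ : G → ℂ) (t * (c : G)) * conj ((ψ : (Ct t) → ℂ) c))) * e2'
      rw [hshift, hn]
      rcases mul_self_eq_one_iff.1 e2 with e | e
      · exact ⟨n, by rw [e, map_one, one_mul, Int.cast_natCast]⟩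
      · exact ⟨-n, by rw [e, map_neg, map_one, Int.cast_neg, Int.cast_natCast, neg_one_mul]⟩
    have hgood : good fun y : K => ∑ ψ ∈ univ.filter (· ∈ principalBlock M (Ct t)),
        classInner (fun c : (Ct t) => (χ : G → ℂ) (t * (c : G))) (ψ : (Ct t) → ℂ) * (ψ : (Ct t) → ℂ) y := by
      rw [show (fun y : K => ∑ ψ ∈ univ.filter (· ∈ principalBlock M (Ct t)),
          classInner (fun c : (Ct t) => (χ : G → ℂ) (t * (c : G))) (ψ : (Ct t) → ℂ) * (ψ : (Ct t) → ℂ) y) =
        ∑ ψ ∈ univ.filter (· ∈ principalBlock M (Ct t)), fun y : K =>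
          classInner (fun c : (Ct t) => (χ : G → ℂ) (t * (c : G))) (ψ : (Ct t) → ℂ) * (ψ : (Ct t) → ℂ) y from
        funext fun y => by rw [Finset.sum_apply]]
      refine sum_induction _ good gadd ⟨0, fun y _ => by simp⟩ fun ψ hψ => ?_
      obtain ⟨ξ, hξ, hres⟩ := hrest ψ (mem_filter.1 hψ).2
      obtain ⟨n, hn⟩ := hcoef ψ
      simp only [hn, hres]
      exact gsmul n _ (gbase ξ (mem_filter.2 ⟨mem_univ _, hξ⟩))
    obtain ⟨c, hc⟩ := hgood
    refine ⟨c, fun y hy => ?_⟩
    rw [principal_section hM ht' hχ (y : (Ct t)) (hreg y hy), blockPart_eq_sum_inner]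
    exact hc y hy
  choose! c hc using hcomb
  -- the Gram matrix
  have hgram : ∀ i j : Fin 3, ∑ χ ∈ mems M G, c χ i * c χ j = if i = j then 4 else 2 := by
    have hex : ∀ y y' : K, ¬ 2 ∣ orderOf y → ¬ 2 ∣ orderOf y' →
        ∑ i : Fin 3, (∑ j : Fin 3, (((∑ χ ∈ mems M G, c χ i * c χ j : ℤ) : ℂ) -
          (if i = j then 4 else 2)) * conj (b j y')) * b i y = 0 := by
      intro y y' hy hy'
      have hk := principal_section_kernel (M := M) hM ht' (y : (Ct t)) (y' : (Ct t)) (hreg y hy) (hreg y' hy')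
      rw [hkernel y y', hsum4] at hk
      have hL : ∑ χ ∈ mems M G, (χ : G → ℂ) (t * ((y : (Ct t)) : G)) *
          conj ((χ : G → ℂ) (t * ((y' : (Ct t)) : G))) =
          ∑ χ ∈ mems M G, ((c χ 0 : ℂ) * b 0 y + (c χ 1 : ℂ) * b 1 y + (c χ 2 : ℂ) * b 2 y) *
            ((c χ 0 : ℂ) * conj (b 0 y') + (c χ 1 : ℂ) * conj (b 1 y') + (c χ 2 : ℂ) * conj (b 2 y')) :=
        sum_congr rfl fun χ hχ => by
          rw [hc χ (mem_mems.1 hχ) y hy, hc χ (mem_mems.1 hχ) y' hy', map_add, map_add, map_mul,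
            map_mul, map_mul, map_intCast, map_intCast, map_intCast]
      rw [show univ.filter (· ∈ principalBlock M G) = mems M G from rfl, hL] at hk
      have e3 : (x₃ : K → ℂ) y * conj ((x₃ : K → ℂ) y') =
          (b 0 y + b 1 y + b 2 y) * (conj (b 0 y') + conj (b 1 y') + conj (b 2 y')) := by
        have h1 := hlast y hy
        have h2 := congrArg conj (hlast y' hy')
        simp only [map_mul, map_intCast, map_neg, map_add] at h2
        linear_combination ((sgn x₃ : ℂ) * conj ((x₃ : K → ℂ) y')) * h1 -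
          (b 0 y + b 1 y + b 2 y) * h2 -
          (x₃ : K → ℂ) y * conj ((x₃ : K → ℂ) y') * hs2 x₃ hm3.2
      have e1 : (x₁ : K → ℂ) y * conj ((x₁ : K → ℂ) y') = b 1 y * conj (b 1 y') := by
        simp only [b, Matrix.cons_val_one, Matrix.head_cons, Matrix.cons_val_zero, map_mul, map_intCast]
        linear_combination -((x₁ : K → ℂ) y * conj ((x₁ : K → ℂ) y')) * hs2 x₁ hm1.2
      have e2 : (x₂ : K → ℂ) y * conj ((x₂ : K → ℂ) y') = b 2 y * conj (b 2 y') := by
        simp only [b, Matrix.cons_val_two, Matrix.head_cons, Matrix.tail_cons, map_mul, map_intCast]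
        linear_combination -((x₂ : K → ℂ) y * conj ((x₂ : K → ℂ) y')) * hs2 x₂ hm2.2
      have e0 : ((oneIrr K : IrrCharacter K) : K → ℂ) y * conj (((oneIrr K : IrrCharacter K) : K → ℂ) y') =
          b 0 y * conj (b 0 y') := by simp [b]
      rw [e0, e1, e2, e3] at hk
      have hexpand : ∀ B B' : Fin 3 → ℂ, ∑ χ ∈ mems M G,
          (∑ i, (c χ i : ℂ) * B i) * (∑ j, (c χ j : ℂ) * B' j) =
          ∑ i, ∑ j, ((∑ χ ∈ mems M G, c χ i * c χ j : ℤ) : ℂ) * (B i * B' j) := by
        intro B B'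
        simp only [Fin.sum_univ_three, Int.cast_sum, Int.cast_mul, sum_mul, ← sum_add_distrib]
        exact sum_congr rfl fun χ _ => by ring
      have h2 := hexpand (fun i => b i y) (fun j => conj (b j y'))
      simp only [Fin.sum_univ_three] at h2
      rw [h2] at hk
      simp only [Fin.sum_univ_three, Fin.reduceEq, if_true, if_false]
      linear_combination hk
    intro i j
    have h1 : ∀ y' : K, ¬ 2 ∣ orderOf y' → (fun i : Fin 3 => ∑ j : Fin 3,
        (((∑ χ ∈ mems M G, c χ i * c χ j : ℤ) : ℂ) - (if i = j then 4 else 2)) * conj (b j y')) = 0 :=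
      fun y' hy' => hind _ fun y hy => by
        have := hex y y' hy hy'
        rwa [Fin.sum_univ_three] at this
    have h2 : (fun j : Fin 3 => ((∑ χ ∈ mems M G, c χ i * c χ j : ℤ) : ℂ) -
        (if i = j then 4 else 2)) = 0 := hind _ fun y hy => by
      have h := congrArg conj (congrFun (h1 y hy) i)
      simp only [Pi.zero_apply, map_zero, map_add, map_mul, map_sub, map_intCast,
        Complex.conj_conj, Fin.sum_univ_three, apply_ite (starRingEnd ℂ), map_ofNat] at h
      exact h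
    have := sub_eq_zero.1 (congrFun h2 j)
    split_ifs at this ⊢ <;> exact_mod_cast this
  -- the principal column
  have hc1 : (c (oneIrr G) 0, c (oneIrr G) 1, c (oneIrr G) 2) = (1, 0, 0) := by
    have h0 : (fun i : Fin 3 => (c (oneIrr G) i : ℂ) - if i = 0 then 1 else 0) = 0 :=
      hind _ fun y hy => by
        have e := hc (oneIrr G) oneIrr_mem_principalBlock y hy
        rw [oneIrr_apply] at e
        simp only [Fin.reduceEq, if_true, if_false, sub_zero]
        have hb0 : b 0 y = 1 := rfl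
        rw [hb0] at e ⊢
        linear_combination -e
    have g0 := sub_eq_zero.1 (congrFun h0 0)
    have g1 := sub_eq_zero.1 (congrFun h0 1)
    have g2 := sub_eq_zero.1 (congrFun h0 2)
    simp only [Fin.reduceEq, if_true, if_false] at g0 g1 g2
    simp only [Prod.mk.injEq]
    exact ⟨by exact_mod_cast g0, by exact_mod_cast g1, by exact_mod_cast g2⟩
  simp only [Prod.mk.injEq] at hc1
  -- the degrees are orthogonal to the columns
  have horth : ∀ i : Fin 3, ∑ χ ∈ mems M G, (charDegree (χ : G → ℂ) : ℤ) * c χ i = 0 := by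
    have h0 : (fun i : Fin 3 =>
        ((∑ χ ∈ mems M G, (charDegree (χ : G → ℂ) : ℤ) * c χ i : ℤ) : ℂ)) = 0 :=
      hind _ fun y hy => by
        have hyt : Commute t ((y : (Ct t)) : G) :=
          (Subgroup.mem_centralizer_singleton_iff.1 (y : (Ct t)).2).symm
        have hsing : 2 ∣ orderOf (t * ((y : (Ct t)) : G)) := by
          rw [hyt.orderOf_mul_eq_mul_orderOf_of_coprime (by
            rw [ht, Subgroup.orderOf_coe, Subgroup.orderOf_coe]
            exact Nat.prime_two.coprime_iff_not_dvd.2 hy), ht]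
          exact dvd_mul_right 2 _
        have e := sum_degree_mul (M := M) hM hsing
        rw [sum_congr rfl fun χ hχ => by rw [hc χ (mem_mems.1 hχ) y hy, (irr_one χ).1]] at e
        simp only [Int.cast_sum, Int.cast_mul, Int.cast_natCast, sum_mul, ← sum_add_distrib]
        refine Eq.trans (sum_congr rfl fun χ _ => ?_) e
        ring
    intro i
    have := congrFun h0 i
    simp only [Pi.zero_apply] at this
    exact_mod_cast this
  -- the values at `u`
  set vC : (Ct t) := ⟨v, Subgroup.mem_centralizer_singleton_iff.2 hc'.symm.eq⟩ with hvC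
  have hvC' : ¬ 2 ∣ orderOf vC := by rwa [Subgroup.orderOf_mk]
  have hvK : vC ∈ K := by
    refine (hsplit vC).resolve_right fun h' => htK ?_
    obtain ⟨m, hm⟩ : ∃ m, orderOf vC = 2 * m + 1 := Nat.odd_iff.2 (by omega)
    have h1 := K.pow_mem h' (orderOf vC)
    rw [(show Commute tC vC from (Subgroup.mem_center_iff.1 htcen vC).symm).mul_pow,
      pow_orderOf_eq_one, mul_one, hm, pow_succ, pow_mul, sq,
      show tC * tC = 1 by rw [← sq, ← htC2]; exact pow_orderOf_eq_one tC, one_pow, one_mul] at h1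
    exact h1
  set lam : Fin 3 → ℂ := fun i => b i ⟨vC, hvK⟩ with hlam
  let δ : IrrCharacter G → ℤ := fun χ =>
    if χ = oneIrr G then 1 else (charDegree (χ : G → ℂ) : ℤ) - 8
  have hval : ∀ χ ∈ mems M G, (δ χ : ℂ) =
      (c χ 0 : ℂ) * lam 0 + (c χ 1 : ℂ) * lam 1 + (c χ 2 : ℂ) * lam 2 := by
    intro χ hχ
    rw [← hc χ (mem_mems.1 hχ) ⟨vC, hvK⟩ (by rwa [Subgroup.orderOf_mk]),
      show t * (((⟨vC, hvK⟩ : K) : (Ct t)) : G) = u from huv]
    simp only [δ]
    split_ifs with h1
    · simp [h1]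
    · have := h χ (mem_mems.1 hχ) h1
      rw [(irr_one χ).1] at this
      push_cast
      linear_combination this
  -- the coefficients are integers
  have hlin : ∀ i : Fin 3, ((∑ χ ∈ mems M G, c χ i * δ χ : ℤ) : ℂ) =
      (if i = 0 then 4 else 2) * lam 0 + (if i = 1 then 4 else 2) * lam 1 +
        (if i = 2 then 4 else 2) * lam 2 := by
    intro i
    have e : ∀ j : Fin 3, ((∑ χ ∈ mems M G, c χ i * c χ j : ℤ) : ℂ) = (if i = j then 4 else 2) :=
      fun j => by rw [hgram i j]; split_ifs <;> norm_num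
    rw [← e 0, ← e 1, ← e 2]
    push_cast
    rw [sum_mul, sum_mul, sum_mul, ← sum_add_distrib, ← sum_add_distrib]
    refine sum_congr rfl fun χ hχ => ?_
    rw [hval χ hχ]
    ring
  have hl0 : lam 0 = 1 := rfl
  have d0 := hlin 0
  have d1 := hlin 1
  have d2 := hlin 2
  simp only [Fin.reduceEq, if_true, if_false, hl0] at d0 d1 d2
  set D0 := ∑ χ ∈ mems M G, c χ 0 * δ χ
  set D1 := ∑ χ ∈ mems M G, c χ 1 * δ χ
  set D2 := ∑ χ ∈ mems M G, c χ 2 * δ χ
  obtain ⟨β, hβ⟩ : ∃ β : ℤ, lam 1 = β := by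
    have h2 : (2 : ℂ) * lam 1 = ((D1 - D0 + 2 : ℤ) : ℂ) := by push_cast; linear_combination d0 - d1
    have hint : IsIntegral ℤ (lam 1) := by
      simp only [hlam, b, Matrix.cons_val_one, Matrix.head_cons, Matrix.cons_val_zero]
      exact (isIntegral_algebraMap (x := sgn x₁)).mul
        (IsCharacter.isIntegral (isCharacter_irr x₁) _)
    have hq : lam 1 = (((D1 - D0 + 2 : ℤ) : ℚ) / 2 : ℚ) := by
      push_cast
      push_cast at h2
      linear_combination h2 / 2
    obtain ⟨n, hn⟩ := exists_int_of_isIntegral_ratCast (hq ▸ hint)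
    exact ⟨n, hq.trans hn⟩
  obtain ⟨γ, hγ⟩ : ∃ γ : ℤ, lam 2 = γ := by
    have h2 : (2 : ℂ) * lam 2 = ((D2 - D0 + 2 : ℤ) : ℂ) := by push_cast; linear_combination d0 - d2
    have hint : IsIntegral ℤ (lam 2) := by
      simp only [hlam, b, Matrix.cons_val_two, Matrix.head_cons, Matrix.tail_cons]
      exact (isIntegral_algebraMap (x := sgn x₂)).mul
        (IsCharacter.isIntegral (isCharacter_irr x₂) _)
    have hq : lam 2 = (((D2 - D0 + 2 : ℤ) : ℚ) / 2 : ℚ) := by
      push_cast
      push_cast at h2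
      linear_combination h2 / 2
    obtain ⟨n, hn⟩ := exists_int_of_isIntegral_ratCast (hq ▸ hint)
    exact ⟨n, hq.trans hn⟩
  -- pass to the combinatorics
  have hconv : ∀ f : IrrCharacter G → ℤ, ∑ r : {χ // χ ∈ mems M G}, f r = ∑ χ ∈ mems M G, f χ :=
    fun f => sum_coe_sort (mems M G) f
  refine false_of_drop (ι := {χ // χ ∈ mems M G}) ⟨oneIrr G, one_mem_mems⟩ (fun r => δ r)
    (fun r => c r 0) (fun r => c r 1) (fun r => c r 2) β γ (if_pos rfl) hc1.1 hc1.2.1 hc1.2.2
    ((hconv fun χ => c χ 0 * c χ 0).trans ((hgram 0 0).trans (if_pos rfl)))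
    ((hconv fun χ => c χ 1 * c χ 1).trans ((hgram 1 1).trans (if_pos rfl)))
    ((hconv fun χ => c χ 2 * c χ 2).trans ((hgram 2 2).trans (if_pos rfl)))
    ((hconv fun χ => c χ 0 * c χ 1).trans ((hgram 0 1).trans (if_neg (by decide))))
    ((hconv fun χ => c χ 0 * c χ 2).trans ((hgram 0 2).trans (if_neg (by decide))))
    ((hconv fun χ => c χ 1 * c χ 2).trans ((hgram 1 2).trans (if_neg (by decide))))
    (fun r => ?_) (fun r => (charDegree ((r : IrrCharacter G) : G → ℂ) : ℤ)) ?_ (fun r hr => ?_)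
    (fun r => by exact_mod_cast (irr_one (r : IrrCharacter G)).2) (fun r hr => ?_)
    ((hconv _).trans (horth 0)) ((hconv _).trans (horth 1)) ((hconv _).trans (horth 2))
  · have e := hval r r.2
    rw [hl0, hβ, hγ, mul_one] at e
    have e' : ((δ r : ℤ) : ℂ) =
        ((c r 0 + β * c r 1 + γ * c r 2 : ℤ) : ℂ) := by rw [e]; push_cast; ring
    exact_mod_cast e'
  · simp [charDegree]
  · have hne : (r : IrrCharacter G) ≠ oneIrr G := fun e => hr (Subtype.ext e)
    simp only [δ, if_neg hne]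
    ring
  · have hne : (r : IrrCharacter G) ≠ oneIrr G := fun e => hr (Subtype.ext e)
    have e := h r (mem_mems.1 r.2) hne
    have hn := IsCharacter.norm_apply_le (isCharacter_irr (r : IrrCharacter G)) u
    rw [(irr_one (r : IrrCharacter G)).1] at e hn
    have hu : ((r : IrrCharacter G) : G → ℂ) u =
        (((charDegree ((r : IrrCharacter G) : G → ℂ) : ℤ) - 8 : ℤ) : ℂ) := by
      push_cast
      linear_combination -e
    rw [hu, Complex.norm_intCast, Complex.natCast_re] at hn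
    simp only [δ, if_neg hne]
    have h' := neg_le_of_abs_le hn
    have : -((charDegree ((r : IrrCharacter G) : G → ℂ) : ℤ)) ≤
        (charDegree ((r : IrrCharacter G) : G → ℂ) : ℤ) - 8 := by exact_mod_cast h'
    omega

/-- The involution centralizers are solvable. -/
theorem solvable_all [Fintype (IrrCharacter G)] (hM : IsPModular 2 M) (S : Sylow 2 G)
    (hS : Nat.card S ≠ 1) {u : G} {k : ℂ} (h : Drop M u k) (hk : k ≠ 0) :
    ∀ x : G, orderOf x = 2 → Group.IsSolvable (Subgroup.centralizer ({x} : Set G)) := by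
  haveI : Fact (Nat.Prime 2) := ⟨Nat.prime_two⟩
  obtain ⟨hkS, hel, hone, t, v, huv, htv, ht, hv⟩ := global hM S hS h hk
  intro x hx
  by_cases h8 : Nat.card S = 8
  · suffices hsol : Group.IsSolvable (Subgroup.centralizer ({t} : Set G)) by
      obtain ⟨g, hg⟩ := isConj_iff.1 (hone x t hx ht)
      haveI := hsol
      refine Group.isSolvable_of_isSolvable_injective (f := ({
        toFun := fun c => ⟨g * (c : G) * g⁻¹, ?_⟩
        map_one' := Subtype.ext (by simp)
        map_mul' := fun a b => Subtype.ext (by simp [mul_assoc]) } :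
          Subgroup.centralizer ({x} : Set G) →* Subgroup.centralizer ({t} : Set G)))
        fun a b hab => by
          simp only [MonoidHom.coe_mk, OneHom.coe_mk, Subtype.mk.injEq] at hab
          exact Subtype.ext (mul_left_cancel (mul_right_cancel hab))
      rw [← hg]
      exact Subgroup.mem_centralizer_singleton_iff.2 ((Commute.conj_iff g).2
        (Subgroup.mem_centralizer_singleton_iff.1 c.2 : Commute (c : G) x)).eq
    obtain ⟨T, hT⟩ := (IsPGroup.of_card (p := 2) (G := Subgroup.zpowers t) (n := 1) (by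
      rw [Nat.card_zpowers, ht, pow_one])).exists_le_sylow
    have hTC : (T : Subgroup G) ≤ Subgroup.centralizer ({t} : Set G) := fun y hy =>
      Subgroup.mem_centralizer_singleton_iff.2 (Elem2.comm hel T.2 hy (hT (Subgroup.mem_zpowers t)))
    set P := T.subtype hTC
    have hP8 : Nat.card P = 8 := by
      rw [← h8, Nat.card_congr (Sylow.equiv S T).toEquiv]
      exact Nat.card_congr (Subgroup.subgroupOfEquivOfLe hTC).toEquiv
    by_cases hN : Subgroup.normalizer ((P : Subgroup (Ct t)) : Set (Ct t)) ≤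
        Subgroup.centralizer ((P : Subgroup (Ct t)) : Set (Ct t))
    · obtain ⟨R, hR, hRo, hall⟩ := DGroup.exists_compl_of_burnside P hN
      haveI := hR
      haveI : Group.IsSolvable R := Cfsg.Agent.S0205.result hRo
      haveI : Group.IsSolvable ((Ct t) ⧸ R) := Group.isSolvable_of_comm fun a b => by
        have hsq : ∀ w : (Ct t) ⧸ R, w * w = 1 := by
          intro w
          obtain ⟨c, rfl⟩ := QuotientGroup.mk'_surjective R w
          obtain ⟨p, q, hpq, -, ⟨n, hn⟩, -, -, hq, -, -, -⟩ := exists_pPart Nat.prime_two c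
          have hp : p * p = 1 := by
            obtain ⟨i, -, hi⟩ := (Nat.dvd_prime_pow Nat.prime_two).1 (orderOf_dvd_of_pow_eq_one hn)
            exact Elem2.sub hel (Ct t) p ⟨i, hi⟩
          rw [← hpq, map_mul, show QuotientGroup.mk' R q = 1 from
            (QuotientGroup.eq_one_iff q).2 (hall q (Nat.odd_iff.2 (by omega))), mul_one, ← map_mul,
            hp, map_one]
        have hi : ∀ w : (Ct t) ⧸ R, w⁻¹ = w := fun w => inv_eq_of_mul_eq_one_right (hsq w)
        rw [← hi (a * b), mul_inv_rev, hi, hi]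
      exact (Group.isSolvable_iff_subgroup_quotient R).2 ⟨inferInstance, inferInstance⟩
    · exfalso
      obtain ⟨g, hgN, hg⟩ := SetLike.not_le_iff_exists.1 hN
      rw [Subgroup.mem_centralizer_iff] at hg
      push Not at hg
      obtain ⟨y, hy, hgy⟩ := hg
      have h' : Drop M u (8 : ℂ) := by
        rw [hkS, h8] at h
        exact_mod_cast h
      exact eight_false hM hel h' ht huv htv hv P hP8 hgN
        ⟨y, hy, fun e => hgy (mul_inv_eq_iff_eq_mul.1 e).symm⟩
  · exact solvable_centralizers S hel hone h8 x hx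

end CfsgLib.ConstDrop
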