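import Cfsg.Agent.ConstDrop.Eight
import Cfsg.Agent.S0938
import Cfsg.Agent.S4626
import Cfsg.Agent.S0494
import Cfsg.Agent.S2299
import Cfsg.Agent.Classical.PSLTwo
import Cfsg.Agent.Blocks.KleinFour
import Cfsg.Agent.Solvable.Fitting
import Cfsg.Agent.Invol.SmallSylow
import Cfsg.Agent.S3188

/-!
The groups with trivial odd core and a constant drop on the principal 2-block.
-/

set_option autoImplicit false
set_option linter.unusedSectionVars false
set_option linter.style.haveILetI false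
set_option maxHeartbeats 1600000

namespace CfsgLib.ConstDrop

open Cfsg Finset CfsgLib.Block CfsgLib.Block.Chr CfsgLib.Char
open scoped ComplexConjugate
open scoped Classical Pointwise

universe u

variable {G : Type u} [Group G] [Fintype G] {M : Ideal AlgInt}

/-- A group of order 60 of shape `PSL₂` is `PSL₂(4)`. -/
theorem exists_four {L : Type u} [Group L] [Finite L] {F : Type} [Field F] [Fintype F]
    (hF : Fintype.card F = 5) (e : L ≃* Matrix.ProjectiveSpecialLinearGroup (Fin 2) F) :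
    ∃ (F' : Type) (_ : Field F') (_ : Fintype F'), Fintype.card F' = 2 ^ 2 ∧
      Nonempty (L ≃* Matrix.ProjectiveSpecialLinearGroup (Fin 2) F') := by
  let F' := GaloisField 2 2
  haveI : Finite F' := inferInstance
  letI : Fintype F' := Fintype.ofFinite F'
  have hF' : Fintype.card F' = 2 ^ 2 := by
    rw [← Nat.card_eq_fintype_card]; exact GaloisField.card 2 2 (by norm_num)
  have h60 : ∀ (K : Type) [Field K] [Fintype K], (Fintype.card K = 5 ∨ Fintype.card K = 4) →
      Nat.card (Matrix.ProjectiveSpecialLinearGroup (Fin 2) K) = 60 := by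
    intro K _ _ hK
    rw [CfsgLib.Linear.PSLTwo.card_eq, Nat.card_eq_fintype_card]
    rcases hK with h | h <;> rw [h] <;> decide
  haveI : IsSimpleGroup L := (psl_data (Or.inl ⟨by omega, by omega⟩) e).1
  haveI : IsSimpleGroup (Matrix.ProjectiveSpecialLinearGroup (Fin 2) F') :=
    (psl_data (L := Matrix.ProjectiveSpecialLinearGroup (Fin 2) F') (Or.inr ⟨2, le_rfl, hF'⟩)
      (MulEquiv.refl _)).1
  obtain ⟨e₁⟩ := Cfsg.Agent.S0494.result (G := L)
    (by rw [Nat.card_congr e.toEquiv]; exact h60 F (Or.inl hF))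
  obtain ⟨e₂⟩ := Cfsg.Agent.S0494.result (G := Matrix.ProjectiveSpecialLinearGroup (Fin 2) F')
    (h60 F' (Or.inr (by rw [hF']; norm_num)))
  exact ⟨F', inferInstance, inferInstance, hF', ⟨e₁.trans e₂.symm⟩⟩

variable [M.IsPrime] [Fintype (IrrCharacter G)]

/-- A normal subgroup of odd index with the centralizer of a Sylow subgroup is everything. -/
theorem eq_top_of_drop (hM : IsPModular 2 M) (S : Sylow 2 G) (h4 : 4 ≤ Nat.card S) {u : G}
    (h : Drop M u (Nat.card S : ℂ)) (N : Subgroup G) [N.Normal] (hidx : ¬ 2 ∣ N.index)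
    (hC : Subgroup.centralizer ((S : Subgroup G) : Set G) ≤ N) : N = ⊤ := by
  haveI : Fact (Nat.Prime 2) := ⟨Nat.prime_two⟩
  by_contra hne
  haveI : Nontrivial (G ⧸ N) := QuotientGroup.nontrivial_iff.2 hne
  haveI : Group.IsSolvable (G ⧸ N) := Cfsg.Agent.S0205.result
    (Nat.odd_iff.2 (by rw [← Subgroup.index_eq_card]; omega))
  have hlt := Group.IsSolvable.commutator_lt_top_of_nontrivial (G ⧸ N)
  haveI : Nontrivial (Abelianization (G ⧸ N)) := QuotientGroup.nontrivial_iff.2 hlt.ne
  obtain ⟨a, ha⟩ := exists_ne (1 : Abelianization (G ⧸ N))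
  obtain ⟨φ, hφ⟩ := CommGroup.exists_apply_ne_one_of_hasEnoughRootsOfUnity
    (Abelianization (G ⧸ N)) ℂ ha
  let l : G →* ℂˣ := φ.comp (Abelianization.of.comp (QuotientGroup.mk' N))
  let χ : IrrCharacter G := ⟨fun g => (l g : ℂ), isIrrCharacter_ofHom l⟩
  have hχB : χ ∈ principalBlock M G :=
    Cfsg.Agent.S4626.result 2 M hM S N hidx hC χ fun n hn => by
      show (l n : ℂ) = (l 1 : ℂ)
      simp only [l, MonoidHom.comp_apply, map_one]
      rw [show QuotientGroup.mk' N n = 1 from (QuotientGroup.eq_one_iff n).2 hn, map_one, map_one]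
  have hχ1 : χ ≠ oneIrr G := by
    intro e
    apply hφ
    obtain ⟨b, rfl⟩ := QuotientGroup.mk_surjective a
    obtain ⟨g, rfl⟩ := QuotientGroup.mk'_surjective N b
    have := congrFun (congrArg Subtype.val e) g
    exact Units.ext this
  have e := h χ hχB hχ1
  have e' : (1 : ℂ) - (l u : ℂ) = (Nat.card S : ℂ) := by
    rw [← e]
    show (1 : ℂ) - (l u : ℂ) = (l 1 : ℂ) - (l u : ℂ)
    rw [map_one, Units.val_one]
  have hn : ‖(1 : ℂ) - (l u : ℂ)‖ ≤ 2 := by
    refine (norm_sub_le _ _).trans ?_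
    rw [norm_one, norm_hom_eq_one]
    norm_num
  rw [e', Complex.norm_natCast] at hn
  have : Nat.card S ≤ 2 := by exact_mod_cast hn
  omega

/-- The odd-characteristic case is the field with five elements. -/
theorem card_field_eq_five (hM : IsPModular 2 M) (S : Sylow 2 G) (hS : Nat.card S = 4) {u t v : G}
    (h : Drop M u 4) (hel : Elem2 G) (hone : OneClass G) (ht : orderOf t = 2) (huv : t * v = u)
    (hc : Commute t v) (hv : ¬ 2 ∣ orderOf v) (N : Subgroup G) (htN : t ∈ N) {F : Type} [Field F]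
    [Fintype F] (hF : (Fintype.card F % 8 = 3 ∨ Fintype.card F % 8 = 5) ∧ 5 ≤ Fintype.card F)
    (e : N ≃* Matrix.ProjectiveSpecialLinearGroup (Fin 2) F) : Fintype.card F = 5 := by
  haveI : Fact (Nat.Prime 2) := ⟨Nat.prime_two⟩
  have hexp : ∀ x : S, x * x = 1 := fun x => Subtype.ext (hel.sq S.2 x.2)
  obtain ⟨h4, w, hw1, hw, -⟩ := klein_principal (M := M) hM S hS hexp hone
  -- the value at `u` is the one at `t`
  obtain ⟨T, hT⟩ := (IsPGroup.of_card (p := 2) (G := Subgroup.zpowers t) (n := 1) (by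
    rw [Nat.card_zpowers, ht, pow_one])).exists_le_sylow
  have hT4 : Nat.card T = 4 := by rw [← hS, Nat.card_congr (Sylow.equiv S T).toEquiv]
  obtain ⟨R, hR, hR2, hRidx⟩ := exists_complement_centralizer T hT4
    (fun x => Subtype.ext (hel.sq T.2 x.2)) (hT (Subgroup.mem_zpowers t))
    (fun e => by rw [e, orderOf_one] at ht; omega)
  haveI := hR
  have hvR : (⟨v, Subgroup.mem_centralizer_singleton_iff.2 hc.symm.eq⟩ :
      Subgroup.centralizer ({t} : Set G)) ∈ R := by
    rw [← QuotientGroup.eq_one_iff, ← orderOf_eq_one_iff]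
    refine Nat.eq_one_of_dvd_coprimes ((Nat.prime_two.coprime_iff_not_dvd.2 hv).pow_left 2) ?_
      ((orderOf_map_dvd (QuotientGroup.mk' R) _).trans (by rw [Subgroup.orderOf_mk]))
    rw [← hRidx, Subgroup.index]
    exact orderOf_dvd_natCard _
  have hval : ∀ χ ∈ principalBlock M G, (χ : G → ℂ) u = (w χ : ℂ) := fun χ hχ => by
    have hv' : v ∈ centralizerPPrimeCore 2 t := Subgroup.mem_map.2 ⟨_,
      CfsgLib.Solvable.le_pPrimeCore 2 hR
        (Nat.coprime_comm.1 (Nat.prime_two.coprime_iff_not_dvd.2 hR2)) hvR, rfl⟩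
    rw [← huv, principal_apply_mul_core hM (k := 1) (by rw [ht, pow_one]) hv' hχ,
      (hw χ hχ).1 t ht]
  have hsing : 2 ∣ orderOf u := by
    rw [← huv, hc.orderOf_mul_eq_mul_orderOf_of_coprime
      (by rw [ht]; exact Nat.prime_two.coprime_iff_not_dvd.2 hv), ht]
    exact dvd_mul_right 2 _
  have horth := sum_degree_mul (M := M) hM hsing
  -- some member of the block has degree three
  obtain ⟨χ, hχ, hne, hχw⟩ : ∃ χ ∈ mems M G, χ ≠ oneIrr G ∧ w χ = -1 := by
    by_contra hall
    push Not at hall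
    have hd : ∀ χ ∈ mems M G, (χ : G → ℂ) 1 * (χ : G → ℂ) u =
        if χ = oneIrr G then 1 else 5 := fun χ hχ => by
      rw [hval χ (mem_mems.1 hχ)]
      split_ifs with h1
      · subst h1; rw [hw1]; simp
      · have hp : w χ = 1 := ((hw χ (mem_mems.1 hχ)).2.1).resolve_right (hall χ hχ h1)
        have := h χ (mem_mems.1 hχ) h1
        rw [hval χ (mem_mems.1 hχ), hp, Int.cast_one] at this
        rw [hp, Int.cast_one, mul_one]
        linear_combination this
    rw [sum_congr rfl hd, ← add_sum_erase _ _ one_mem_mems, if_pos rfl, sum_congr rfl fun χ hχ =>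
      if_neg (mem_erase.1 hχ).1, sum_const, card_erase_of_mem one_mem_mems,
      show (mems M G).card = 4 from h4] at horth
    norm_num at horth
  have hdeg : (χ : G → ℂ) 1 = 3 := by
    have := h χ (mem_mems.1 hχ) hne
    rw [hval χ (mem_mems.1 hχ), hχw] at this
    push_cast at this
    linear_combination this
  -- a constituent on `N`
  haveI : Fintype N := Fintype.ofFinite _
  letI := irrFintype (G := N)
  have hcl : IsClassFunction N (fun y : N => (χ : G → ℂ) y) := fun a b =>
    isClassFunction_irr χ (a : G) (b : G)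
  have hm : ∀ θ : IrrCharacter N, ∃ n : ℕ,
      classInner (fun y : N => (χ : G → ℂ) y) (θ : N → ℂ) = n := fun θ =>
    IsCharacter.exists_classInner_eq_natCast' (IsCharacter.restrict (isCharacter_irr χ) N)
      (isCharacter_irr θ)
  choose m hm using hm
  obtain ⟨θ, hθm, hθne⟩ : ∃ θ, m θ ≠ 0 ∧ θ ≠ oneIrr N := by
    by_contra hall
    push Not at hall
    have key : ∀ y : N, (χ : G → ℂ) y = (m (oneIrr N) : ℂ) := fun y => by
      refine (classFun_expand hcl y).trans ?_
      rw [sum_eq_single (oneIrr N) (fun θ _ hθ => by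
          rw [hm, Classical.not_not.1 (mt (hall θ) hθ), Nat.cast_zero, zero_mul])
          (fun h => absurd (mem_univ _) h), hm, oneIrr_apply, mul_one]
    have e1 := key ⟨t, htN⟩
    have e2 := key 1
    rw [Subgroup.coe_one, hdeg] at e2
    rw [(hw χ (mem_mems.1 hχ)).1 t ht, hχw, ← e2] at e1
    norm_num at e1
  have hle : charDegree (θ : N → ℂ) ≤ 3 := by
    have e1 := classFun_expand hcl 1
    simp only [Subgroup.coe_one, hm] at e1
    rw [hdeg] at e1
    simp only [(irr_one _).1] at e1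
    have e2 : (3 : ℕ) = ∑ θ : IrrCharacter N, m θ * charDegree (θ : N → ℂ) := by exact_mod_cast e1
    rw [e2]
    refine le_trans ?_ (single_le_sum (f := fun θ : IrrCharacter N => m θ * charDegree (θ : N → ℂ))
      (fun _ _ => Nat.zero_le _) (mem_univ θ))
    exact Nat.le_mul_of_pos_left _ (Nat.pos_of_ne_zero hθm)
  obtain ⟨hsimp, hna, -⟩ := psl_data (Or.inl hF) e
  have hge : 2 ≤ charDegree (θ : N → ℂ) := by
    by_contra hlt
    have hd : charDegree (θ : N → ℂ) = 1 := by
      have := (irr_one θ).2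
      omega
    obtain ⟨l, hl⟩ := IsCharacter.exists_hom (isCharacter_irr θ) (by rw [(irr_one θ).1, hd, Nat.cast_one])
    rcases (hsimp.eq_bot_or_eq_top_of_normal l.ker inferInstance) with hk | hk
    · exact hna ⟨⟨fun a b => (MonoidHom.ker_eq_bot_iff l).1 hk (by rw [map_mul, map_mul, mul_comm])⟩⟩
    · refine hθne (Subtype.ext (funext fun y => ?_))
      rw [hl, oneIrr_apply]
      show ((l y : ℂˣ) : ℂ) = 1
      rw [MonoidHom.mem_ker.1 (hk ▸ Subgroup.mem_top y : y ∈ l.ker), Units.val_one]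
  -- lift to the special linear group
  have hirr : IsIrrCharacter (Matrix.SpecialLinearGroup (Fin 2) F)
      (fun A => (θ : N → ℂ) (e.symm (QuotientGroup.mk A))) :=
    CfsgLib.Char.IsIrrCharacter.comp_surjective θ.2
      (e.symm.toMonoidHom.comp (QuotientGroup.mk' _))
      (e.symm.surjective.comp (QuotientGroup.mk'_surjective _))
  have hd := (Cfsg.Agent.S2299.result (F := F) (Nat.odd_iff.2 (by omega))).1 _ hirr
  rw [show (QuotientGroup.mk (1 : Matrix.SpecialLinearGroup (Fin 2) F) :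
    Matrix.ProjectiveSpecialLinearGroup (Fin 2) F) = 1 from rfl, map_one, (irr_one θ).1] at hd
  have hq := hF.1
  have h5 := hF.2
  have hd' : charDegree (θ : N → ℂ) = 1 ∨ charDegree (θ : N → ℂ) = Fintype.card F ∨
      charDegree (θ : N → ℂ) = Fintype.card F + 1 ∨ charDegree (θ : N → ℂ) = Fintype.card F - 1 ∨
      charDegree (θ : N → ℂ) = (Fintype.card F + 1) / 2 ∨
      charDegree (θ : N → ℂ) = (Fintype.card F - 1) / 2 := by
    rw [show (Fintype.card F : ℂ) - 1 = ((Fintype.card F - 1 : ℕ) : ℂ) by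
      rw [Nat.cast_sub (by omega), Nat.cast_one]] at hd
    exact_mod_cast hd
  omega

/-- Elements centralizing a Sylow subgroup lie in the normal `PSL₂(2 ^ n)`. -/
theorem centralizer_sylow_le (hel : Elem2 G) (S : Sylow 2 G) (N : Subgroup G) [N.Normal]
    (hSN : (S : Subgroup G) ≤ N) (hCN : Subgroup.centralizer (N : Set G) = ⊥)
    (hsimp : IsSimpleGroup N) (hna : ¬ IsMulCommutative N) (hidx : ¬ 2 ∣ N.index)
    (hcent : ∀ a : N, a * a = 1 → a ≠ 1 → ∀ x : N, Commute x a → x * x = 1)
    (hsyl : (Subgroup.normalizer ((S.subtype hSN : Subgroup N) : Set N)).index = Nat.card S + 1) :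
    Subgroup.centralizer ((S : Subgroup G) : Set G) ≤ N := by
  haveI : Fact (Nat.Prime 2) := ⟨Nat.prime_two⟩
  intro g hg
  -- reduce to odd order
  obtain ⟨a, b, hab, hc, ⟨na, hna'⟩, -, -, hb, -, haz, hbz⟩ := exists_pPart Nat.prime_two g
  have ha : a ∈ N := by
    rw [← QuotientGroup.eq_one_iff, ← orderOf_eq_one_iff]
    refine Nat.eq_one_of_dvd_coprimes ((Nat.prime_two.coprime_iff_not_dvd.2 hidx).pow_left na)
      ((orderOf_map_dvd (QuotientGroup.mk' N) a).trans (orderOf_dvd_of_pow_eq_one hna')) ?_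
    rw [Subgroup.index]
    exact orderOf_dvd_natCard _
  rw [← hab]
  refine N.mul_mem ha ?_
  have hbS : b ∈ Subgroup.centralizer ((S : Subgroup G) : Set G) := Subgroup.zpowers_le.2 hg hbz
  -- the action on the Sylow subgroups of `N`
  set Q := S.subtype hSN
  have hQS : ∀ x : N, x ∈ (Q : Subgroup N) ↔ (x : G) ∈ (S : Subgroup G) := fun x => Iff.rfl
  have hfixQ : ∀ c ∈ Subgroup.centralizer ((S : Subgroup G) : Set G),
      (MulAut.conjNormal c : MulAut N) • Q = Q := by
    intro c hcS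
    have hfix : ∀ y : N, y ∈ (Q : Subgroup N) → (MulAut.conjNormal c : MulAut N) • y = y :=
      fun y hy => Subtype.ext (by
        rw [MulAut.smul_def, MulAut.conjNormal_apply,
          ← Subgroup.mem_centralizer_iff.1 hcS _ ((hQS y).1 hy), mul_inv_cancel_right])
    refine Sylow.ext ?_
    ext x
    change x ∈ (MulAut.conjNormal c : MulAut N) • (Q : Subgroup N) ↔ x ∈ (Q : Subgroup N)
    rw [Subgroup.mem_smul_pointwise_iff_exists]
    constructor
    · rintro ⟨y, hy, rfl⟩
      rwa [hfix y hy]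
    · exact fun hx => ⟨x, hx, hfix x hx⟩
  -- the Sylow subgroup is semiregular on the others
  have hQ2 : ∀ x : N, x ∈ (Q : Subgroup N) → x * x = 1 := fun x hx =>
    Subtype.ext (hel.sq S.2 ((hQS x).1 hx))
  have hsemi : ∀ T : Sylow 2 N, ∀ s : N, s ∈ (Q : Subgroup N) → s • T = T → s ≠ 1 → T = Q := by
    intro T s hs hsT hs1
    have hsN : s ∈ Subgroup.normalizer ((T : Subgroup N) : Set N) :=
      Sylow.smul_eq_iff_mem_normalizer.1 hsT
    have hp : IsPGroup 2 (Subgroup.zpowers s) := by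
      refine IsPGroup.of_card (n := 1) ?_
      rw [Nat.card_zpowers, pow_one]
      exact orderOf_eq_prime (by rw [pow_two]; exact hQ2 s hs) hs1
    have hsT' : s ∈ (T : Subgroup N) :=
      ((hp.inf_normalizer_sylow T).le ⟨Subgroup.mem_zpowers s, hsN⟩).2
    have hel' := hel.sub N
    refine Sylow.ext (Subgroup.eq_of_le_of_card_ge (fun x hx => ?_) ?_)
    · -- both lie in the centralizer of `s`, a 2-group
      have hp2 : IsPGroup 2 (Subgroup.centralizer ({s} : Set N)) := fun w => ⟨1, Subtype.ext (by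
        rw [pow_one, sq, Subgroup.coe_mul, Subgroup.coe_one]
        exact hcent s (hQ2 s hs) hs1 _ (Subgroup.mem_centralizer_singleton_iff.1 w.2))⟩
      have hQC : (Q : Subgroup N) ≤ Subgroup.centralizer ({s} : Set N) := fun y hy =>
        Subgroup.mem_centralizer_singleton_iff.2 (hel'.comm Q.2 hy hs)
      rw [← Q.3 hp2 hQC]
      exact Subgroup.mem_centralizer_singleton_iff.2 (hel'.comm T.2 hx hsT')
    · rw [Nat.card_congr (Sylow.equiv Q T).toEquiv]
  haveI : Fintype (Sylow 2 N) := Fintype.ofFinite _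
  have hcount : Nat.card (Sylow 2 N) = Nat.card S + 1 := by
    rw [Q.card_eq_index_normalizer]
    exact hsyl
  obtain ⟨T₀, hT₀⟩ := Fintype.exists_ne_of_one_lt_card (α := Sylow 2 N) (by
    rw [← Nat.card_eq_fintype_card, hcount]
    have := Nat.card_pos (α := S)
    omega) Q
  let f : ↥(Q : Subgroup N) → {T : Sylow 2 N // T ≠ Q} := fun s => ⟨(s : N) • T₀, fun h => hT₀ (by
    rw [← inv_smul_smul (s : N) T₀, h]
    exact Sylow.smul_eq_iff_mem_normalizer.2 (Subgroup.le_normalizer (inv_mem s.2)))⟩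
  have hcardQ : Nat.card (Q : Subgroup N) = Nat.card S :=
    Nat.card_congr (Subgroup.subgroupOfEquivOfLe hSN).toEquiv
  have hbij : Function.Bijective f := by
    rw [Fintype.bijective_iff_injective_and_card]
    refine ⟨fun x y hxy => ?_, ?_⟩
    · have hxy' : (x : N) • T₀ = (y : N) • T₀ := congrArg Subtype.val hxy
      refine Subtype.ext (inv_mul_eq_one.1 ?_).symm
      by_contra hne
      exact hT₀ (hsemi T₀ _ (mul_mem (inv_mem y.2) x.2)
        (by rw [mul_smul, hxy', inv_smul_smul]) hne)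
    · rw [Fintype.card_subtype_compl, Fintype.card_subtype_eq, ← Nat.card_eq_fintype_card,
        ← Nat.card_eq_fintype_card, hcount, hcardQ, Nat.add_sub_cancel]
  obtain ⟨s, hs⟩ := hbij.2 ⟨(MulAut.conjNormal b : MulAut N) • T₀, fun h => hT₀
    (MulAction.injective (MulAut.conjNormal b : MulAut N) (h.trans (hfixQ b hbS).symm))⟩
  have hs' : (s : N) • T₀ = (MulAut.conjNormal b : MulAut N) • T₀ := congrArg Subtype.val hs
  have hconj : ∀ (n : N) (T : Sylow 2 N), (MulAut.conjNormal (n : G) : MulAut N) • T = n • T := by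
    intro n T
    rw [MulAut.conjNormal_val]
    rfl
  have hcom : ∀ x ∈ (S : Subgroup G), ∀ y ∈ (S : Subgroup G), x * y = y * x := fun x hx y hy =>
    hel.comm S.2 hx hy
  have hsS : ((s : N) : G) ∈ (S : Subgroup G) := (hQS _).1 s.2
  have hc : ((s : N) : G)⁻¹ * b ∈ Subgroup.centralizer ((S : Subgroup G) : Set G) :=
    mul_mem (inv_mem (Subgroup.mem_centralizer_iff.2 fun x hx => hcom x hx _ hsS)) hbS
  set c := ((s : N) : G)⁻¹ * b
  have hc0 : (MulAut.conjNormal c : MulAut N) • T₀ = T₀ := by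
    rw [map_mul, mul_smul, ← hs', ← Subgroup.coe_inv, hconj, inv_smul_smul]
  have hall : ∀ T : Sylow 2 N, (MulAut.conjNormal c : MulAut N) • T = T := by
    intro T
    by_cases hT : T = Q
    · rw [hT]; exact hfixQ c hc
    obtain ⟨s', hs''⟩ := hbij.2 ⟨T, hT⟩
    have hT' : (s' : N) • T₀ = T := congrArg Subtype.val hs''
    rw [← hT', ← hconj, smul_smul, ← map_mul,
      ← Subgroup.mem_centralizer_iff.1 hc _ ((hQS _).1 s'.2), map_mul, mul_smul, hc0]
  -- the kernel of the action is trivial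
  have hker : (MulAction.toPermHom N (Sylow 2 N)).ker = ⊥ :=
    (hsimp.eq_bot_or_eq_top_of_normal _ inferInstance).resolve_right fun h => by
      obtain ⟨n, hn⟩ := MulAction.exists_smul_eq N Q T₀
      apply hT₀
      rw [← hn]
      exact congrArg (fun σ : Equiv.Perm (Sylow 2 N) => σ Q)
        (MonoidHom.mem_ker.1 (h ▸ Subgroup.mem_top n))
  have hcN : c ∈ Subgroup.centralizer (N : Set G) := by
    refine Subgroup.mem_centralizer_iff.2 fun n hn => ?_
    have hmem : c * n * c⁻¹ * n⁻¹ ∈ N :=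
      N.mul_mem (Subgroup.Normal.conj_mem inferInstance n hn c) (N.inv_mem hn)
    have h1 : (⟨_, hmem⟩ : N) ∈ (MulAction.toPermHom N (Sylow 2 N)).ker := by
      refine MonoidHom.mem_ker.2 (Equiv.ext fun T => ?_)
      show (⟨_, hmem⟩ : N) • T = T
      rw [← hconj]
      show (MulAut.conjNormal (c * n * c⁻¹ * n⁻¹) : MulAut N) • T = T
      rw [map_mul, map_mul, map_mul, map_inv, map_inv, mul_smul, mul_smul, mul_smul,
        inv_smul_eq_iff.2 (hall _).symm, smul_inv_smul, hall]
    rw [hker, Subgroup.mem_bot, Subtype.ext_iff, Subgroup.coe_one, mul_inv_eq_one,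
      mul_inv_eq_iff_eq_mul] at h1
    exact h1.symm
  rw [hCN, Subgroup.mem_bot, inv_mul_eq_one] at hcN
  exact hcN ▸ (s : N).2

/-- The case of even characteristic. -/
theorem even_case (hM : IsPModular 2 M) (S : Sylow 2 G) (hS4 : 4 ≤ Nat.card S) {u t v : G}
    (hdS : Drop M u (Nat.card S : ℂ)) (hel : Elem2 G) (hu1 : u ≠ 1) (huv : t * v = u)
    (hc : Commute t v) (ht : orderOf t = 2) (hv : ¬ 2 ∣ orderOf v) (N : Subgroup G) [N.Normal]
    (hSN : (S : Subgroup G) ≤ N) (hidx : ¬ 2 ∣ N.index)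
    (hCN : Subgroup.centralizer (N : Set G) = ⊥) (F : Type) [Field F] [Fintype F] (n : ℕ)
    (hn : 2 ≤ n) (hq : Fintype.card F = 2 ^ n)
    (e : N ≃* Matrix.ProjectiveSpecialLinearGroup (Fin 2) F) (htN : t ∈ N) :
    u = 1 ∨ (Nat.card G = 2 ∧ u ≠ 1) ∨
      ∃ (F : Type) (_ : Field F) (_ : Fintype F) (n : ℕ), 2 ≤ n ∧ Fintype.card F = 2 ^ n ∧
        Nonempty (G ≃* Matrix.ProjectiveSpecialLinearGroup (Fin 2) F) ∧ u ≠ 1 ∧ u ^ 2 = 1 := by
  haveI : Fact (Nat.Prime 2) := ⟨Nat.prime_two⟩
  obtain ⟨hsimp, hna, -, hV, heven⟩ := psl_data (Or.inr ⟨n, hn, hq⟩) e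
  have hS : Nat.card S = Fintype.card F := by
    obtain ⟨m, -, -, hm⟩ := hV (S.subtype hSN)
    rw [← hm n hq]
    exact (Nat.card_congr (Subgroup.subgroupOfEquivOfLe hSN).toEquiv).symm
  haveI : CharP F 2 := by
    obtain ⟨p, hp⟩ := CharP.exists F
    haveI := hp
    obtain ⟨k, hp', hk⟩ := FiniteField.card F p
    have : p ∣ 2 ^ n := by rw [← hq, hk]; exact dvd_pow_self _ k.pos.ne'
    exact (Nat.prime_dvd_prime_iff_eq hp' Nat.prime_two).1 (hp'.dvd_of_dvd_pow this) ▸ hp
  have hsyl : (Subgroup.normalizer ((S.subtype hSN : Subgroup N) : Set N)).index =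
      Nat.card S + 1 := by
    have h1 := CfsgLib.Linear.PSLTwo.index_normalizer 2
      ((S.subtype hSN).mapSurjective (f := e.toMonoidHom) e.surjective)
    rw [show ((S.subtype hSN).mapSurjective (f := e.toMonoidHom) e.surjective :
      Subgroup (Matrix.ProjectiveSpecialLinearGroup (Fin 2) F)) =
        (S.subtype hSN : Subgroup N).map e.toMonoidHom from rfl, ← Subgroup.map_equiv_normalizer_eq,
      Subgroup.index_map_of_bijective (f := e.toMonoidHom) e.bijective,
      Nat.card_eq_fintype_card, ← hS] at h1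
    exact h1
  have htop : N = ⊤ := eq_top_of_drop hM S hS4 hdS N hidx
    (centralizer_sylow_le hel S N hSN hCN hsimp hna hidx
      (fun a ha ha1 => heven n hq a ha ha1) hsyl)
  right; right
  refine ⟨F, inferInstance, inferInstance, n, hn, hq,
    ⟨(Subgroup.topEquiv.symm.trans (MulEquiv.subgroupCongr htop.symm)).trans e⟩, hu1, ?_⟩
  have hvN : v ∈ N := htop ▸ Subgroup.mem_top v
  have ht2 : t * t = 1 := by rw [← pow_two, ← ht, pow_orderOf_eq_one]
  have hv2 : v * v = 1 := congrArg Subtype.val (heven n hq ⟨t, htN⟩ (Subtype.ext ht2)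
    (fun e => by rw [show t = 1 from congrArg Subtype.val e, orderOf_one] at ht; omega)
    ⟨v, hvN⟩ (Subtype.ext hc.symm.eq))
  rw [← huv, hc.mul_pow, pow_two, pow_two, ht2, hv2, one_mul]

/-- The groups with trivial odd core and a constant drop. -/
theorem forward (hM : IsPModular 2 M) {u : G} {k : ℂ} (h : Drop M u k) (hO : oddCore G = ⊥) :
    u = 1 ∨ (Nat.card G = 2 ∧ u ≠ 1) ∨
      ∃ (F : Type) (_ : Field F) (_ : Fintype F) (n : ℕ), 2 ≤ n ∧ Fintype.card F = 2 ^ n ∧
        Nonempty (G ≃* Matrix.ProjectiveSpecialLinearGroup (Fin 2) F) ∧ u ≠ 1 ∧ u ^ 2 = 1 := by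
  haveI : Fact (Nat.Prime 2) := ⟨Nat.prime_two⟩
  have hodd : ∀ K : Subgroup G, K.Normal → ¬ 2 ∣ Nat.card K → K = ⊥ := fun K hK hc =>
    le_bot_iff.1 ((CfsgLib.Solvable.le_pPrimeCore 2 hK
      (Nat.coprime_comm.1 (Nat.prime_two.coprime_iff_not_dvd.2 hc))).trans hO.le)
  by_cases hk : k = 0
  · left
    obtain ⟨K, hK, hKeq, hKodd, -, -⟩ := Cfsg.Agent.S0938.result 2 M hM (principalBlock M G)
      isPBlock_principalBlock (oneIrr G) oneIrr_mem_principalBlock
    have hu : u ∈ K := by
      rw [← SetLike.mem_coe, hKeq]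
      intro χ hχ
      by_cases h1 : χ = oneIrr G
      · rw [h1, oneIrr_apply, oneIrr_apply]
      · exact (sub_eq_zero.1 ((h χ hχ h1).trans hk)).symm
    rwa [hodd K hK hKodd, Subgroup.mem_bot] at hu
  let S : Sylow 2 G := default
  by_cases hS1 : Nat.card S = 1
  · left
    have hG : ¬ 2 ∣ Nat.card (⊤ : Subgroup G) := by
      rw [Subgroup.card_top, ← (S : Subgroup G).card_mul_index, hS1, one_mul]
      exact S.not_dvd_index
    exact Subgroup.mem_bot.1 (hodd ⊤ inferInstance hG ▸ Subgroup.mem_top u)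
  obtain ⟨hkS, hel', hone, t, v, huv, hc, ht, hv⟩ := global hM S hS1 h hk
  have hel : Elem2 G := hel'
  have hsing : 2 ∣ orderOf u := by
    rw [← huv, hc.orderOf_mul_eq_mul_orderOf_of_coprime
      (by rw [ht]; exact Nat.prime_two.coprime_iff_not_dvd.2 hv), ht]
    exact dvd_mul_right 2 _
  have hu1 : u ≠ 1 := fun e => by rw [e, orderOf_one] at hsing; omega
  by_cases hS2 : Nat.card S = 2
  · right; left
    refine ⟨?_, hu1⟩
    obtain ⟨H, hH⟩ := CfsgLib.SmallSylow.exists_index_two_of_cyclic (G := G)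
      (even_iff_two_dvd.2 (hsing.trans (orderOf_dvd_natCard u))) S (isCyclic_of_prime_card hS2)
    haveI := Subgroup.normal_of_index_eq_two hH
    have e1 := (S : Subgroup G).card_mul_index
    have e2 := H.card_mul_index
    rw [hH] at e2
    rw [hS2] at e1
    have hHodd : ¬ 2 ∣ Nat.card H := by
      rw [show Nat.card H = (S : Subgroup G).index by omega]
      exact S.not_dvd_index
    rw [hodd H inferInstance hHodd, Subgroup.card_bot] at e2
    omega
  have hS4 : 4 ≤ Nat.card S := by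
    obtain ⟨n, hn⟩ := IsPGroup.iff_card.1 S.2
    rw [hn] at hS1 hS2 ⊢
    have hn2 : 2 ≤ n := by
      by_contra hlt
      interval_cases n
      · exact hS1 rfl
      · exact hS2 rfl
    exact le_trans (by norm_num) (Nat.pow_le_pow_right two_pos hn2)
  have hdS : Drop M u (Nat.card S : ℂ) := hkS ▸ h
  haveI := hel.isMulCommutative S
  have hCS : ∀ (N : Subgroup G) [N.Normal], ¬ 2 ∣ N.index →
      Subgroup.centralizer ((S : Subgroup G) : Set G) ≤ N → N = ⊤ :=
    fun N _ hidx hC => eq_top_of_drop hM S hS4 hdS N hidx hC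
  rcases Cfsg.Agent.S3188.result S (hel.isMulCommutative S) (solvable_all hM S hS1 h hk) with
    hsol | ⟨F, _, _, hF, N₀, hN₀, ⟨e₀⟩, hC₀⟩
  · -- the solvable case
    exfalso
    haveI := hsol
    have hSc : (S : Subgroup G) = pCore 2 G := CfsgLib.Fitting.abelian_sylow_eq_pCore hO S
      fun x hx => Subgroup.mem_centralizer_iff.2 fun y hy => hel.comm S.2 hy hx
    haveI hSn : (S : Subgroup G).Normal := hSc ▸ CfsgLib.Solvable.pCore_normal 2
    have hle : Subgroup.centralizer ((S : Subgroup G) : Set G) ≤ S := by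
      rw [hSc]
      exact CfsgLib.Fitting.centralizer_pCore_le hO
    have htop := hCS (S : Subgroup G) S.not_dvd_index hle
    have hcomm : ∀ a b : G, a * b = b * a := fun a b =>
      hel.comm S.2 (htop.symm ▸ Subgroup.mem_top a) (htop.symm ▸ Subgroup.mem_top b)
    have hsub : ∀ x y : G, x ≠ 1 → y ≠ 1 → x = y := by
      intro x y hx hy
      obtain ⟨g, hg⟩ := isConj_iff.1 (hone x y (hel.order S.2 (htop.symm ▸ Subgroup.mem_top x) hx)
        (hel.order S.2 (htop.symm ▸ Subgroup.mem_top y) hy))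
      rw [← hg, hcomm g x, mul_inv_cancel_right]
    have hcard : Nat.card S ≤ 2 := by
      refine le_trans (Subgroup.card_le_card_group _) ?_
      rw [Nat.card_eq_fintype_card, ← card_univ]
      refine le_trans (card_le_card (t := {1, u}) fun x _ => ?_) card_le_two
      by_cases hx : x = 1
      · simp [hx]
      · simp [hsub x u hx hu1]
    omega
  -- the simple case
  let e' : G ⧸ oddCore G ≃* G :=
    (QuotientGroup.quotientMulEquivOfEq hO).trans QuotientGroup.quotientBot
  set N : Subgroup G := N₀.map e'.toMonoidHom with hNdef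
  haveI : N.Normal := hN₀.map _ e'.surjective
  let e : N ≃* Matrix.ProjectiveSpecialLinearGroup (Fin 2) F :=
    (e'.subgroupMap N₀).symm.trans e₀
  have hCN : Subgroup.centralizer (N : Set G) = ⊥ := by
    rw [Subgroup.eq_bot_iff_forall]
    intro x hx
    have : e'.symm x ∈ Subgroup.centralizer (N₀ : Set (G ⧸ oddCore G)) :=
      Subgroup.mem_centralizer_iff.2 fun n hn => e'.injective (by
        rw [map_mul, map_mul, MulEquiv.apply_symm_apply]
        exact Subgroup.mem_centralizer_iff.1 hx _ (Subgroup.mem_map_of_mem _ hn))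
    rw [hC₀, Subgroup.mem_bot] at this
    exact (MulEquiv.map_eq_one_iff e'.symm).1 this
  obtain ⟨hsimp, hna, -, hV, heven⟩ := psl_data hF e
  -- every involution lies in `N`
  obtain ⟨a, ha⟩ : ∃ a : N, orderOf a = 2 := by
    let V : Sylow 2 N := default
    obtain ⟨n, hn, hVn, -⟩ := hV V
    refine exists_prime_orderOf_dvd_card' 2 (dvd_trans ?_ (Subgroup.card_subgroup_dvd_card
      (V : Subgroup N)))
    rw [hVn]
    exact dvd_pow_self 2 (by omega)
  have hinv : ∀ x : G, orderOf x = 2 → x ∈ N := fun x hx => by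
    obtain ⟨g, hg⟩ := isConj_iff.1 (hone (a : G) x (by rw [Subgroup.orderOf_coe, ha]) hx)
    exact hg ▸ Subgroup.Normal.conj_mem inferInstance _ a.2 g
  have hSN : (S : Subgroup G) ≤ N := fun x hx => by
    by_cases hx1 : x = 1
    · exact hx1 ▸ N.one_mem
    · exact hinv x (hel.order S.2 hx hx1)
  have hidx : ¬ 2 ∣ N.index := fun hd => S.not_dvd_index (hd.trans (Subgroup.index_dvd_of_le hSN))
  have hcardV : Nat.card (S.subtype hSN : Subgroup N) = Nat.card S :=
    Nat.card_congr (Subgroup.subgroupOfEquivOfLe hSN).toEquiv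
  rcases hF with hF | ⟨n, hn, hq⟩
  · -- odd characteristic
    have hS' : Nat.card S = 4 := by
      obtain ⟨n, hn, hVn, -⟩ := hV (S.subtype hSN)
      rw [hcardV] at hVn
      have hdvd : Nat.card S ∣ Nat.card (Matrix.ProjectiveSpecialLinearGroup (Fin 2) F) := by
        rw [← hcardV, ← Nat.card_congr e.toEquiv]
        exact Subgroup.card_subgroup_dvd_card _
      rw [CfsgLib.Linear.PSLTwo.card_eq, Nat.card_eq_fintype_card (α := F), hVn] at hdvd
      obtain ⟨hq, h5⟩ := hF
      rw [Nat.gcd_eq_left (by omega : 2 ∣ Fintype.card F - 1)] at hdvd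
      by_contra h4
      have hn3 : 3 ≤ n := by
        by_contra hlt
        have : n = 2 := by omega
        subst this
        exact h4 (by rw [hVn]; norm_num)
      have h8 : 8 ∣ (Fintype.card F + 1) * (Fintype.card F * ((Fintype.card F - 1) / 2)) :=
        (pow_dvd_pow 2 hn3).trans hdvd
      obtain ⟨m, hm⟩ : ∃ m, Fintype.card F = 8 * m + 3 ∨ Fintype.card F = 8 * m + 5 :=
        ⟨Fintype.card F / 8, by omega⟩
      rcases hm with hm | hm <;> rw [hm] at h8
      · rw [show (8 * m + 3 - 1) / 2 = 4 * m + 1 by omega,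
          show (8 * m + 3 + 1) * ((8 * m + 3) * (4 * m + 1)) =
            8 * (32 * m ^ 3 + 36 * m ^ 2 + 13 * m + 1) + 4 by ring] at h8
        omega
      · rw [show (8 * m + 5 - 1) / 2 = 4 * m + 2 by omega,
          show (8 * m + 5 + 1) * ((8 * m + 5) * (4 * m + 2)) =
            8 * (32 * m ^ 3 + 60 * m ^ 2 + 37 * m + 7) + 4 by ring] at h8
        omega
    have hdS' : Drop M u 4 := by
      rw [hS'] at hdS
      exact_mod_cast hdS
    have h5 := card_field_eq_five hM S hS' hdS' hel hone ht huv hc hv N (hinv t ht) hF e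
    obtain ⟨F', _, _, hq', ⟨e₂⟩⟩ := exists_four h5 e
    exact even_case hM S hS4 hdS hel hu1 huv hc ht hv N hSN hidx hCN F' 2 le_rfl hq' e₂ (hinv t ht)
  · exact even_case hM S hS4 hdS hel hu1 huv hc ht hv N hSN hidx hCN F n hn hq e (hinv t ht)

end CfsgLib.ConstDrop
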