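import Cfsg.Agent.Blocks.Section
import Cfsg.Agent.Blocks.Congr
import Cfsg.Agent.Blocks.Integrality
import Cfsg.Agent.BlocksB.PrincipalColumns
import Cfsg.Agent.Char.CenterValues

/-!
# A constant drop on the principal 2-block: the global consequences

If `χ 1 - χ u = k ≠ 0` for the non-principal characters of the principal 2-block, then the Sylow
2-subgroups are elementary abelian with one class of involutions and `k` is their order.
-/

set_option autoImplicit false
set_option linter.unusedSectionVars false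
set_option linter.style.haveILetI false

namespace CfsgLib.ConstDrop

open Cfsg Finset CfsgLib.Block CfsgLib.Block.Chr CfsgLib.Char CfsgLib.BlockB
open scoped ComplexConjugate
open scoped Classical

universe u

variable {G : Type u} [Group G] [Fintype G] {M : Ideal AlgInt}

/-- The non-principal characters of the principal block drop by the same amount from `1` to `u`. -/
def Drop (M : Ideal AlgInt) (u : G) (k : ℂ) : Prop :=
  ∀ χ ∈ principalBlock M G, χ ≠ oneIrr G → (χ : G → ℂ) 1 - (χ : G → ℂ) u = k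

/-- The members of the principal block. -/
noncomputable def mems (M : Ideal AlgInt) (G : Type u) [Group G] [Fintype (IrrCharacter G)] :
    Finset (IrrCharacter G) :=
  univ.filter (· ∈ principalBlock M G)

theorem mem_mems [Fintype (IrrCharacter G)] {χ : IrrCharacter G} :
    χ ∈ mems M G ↔ χ ∈ principalBlock M G := by simp [mems]

theorem one_mem_mems [M.IsPrime] [Fintype (IrrCharacter G)] : oneIrr G ∈ mems M G :=
  mem_mems.2 oneIrr_mem_principalBlock

/-- The fundamental identity: multiply by a linear functional and sum over the block. -/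
theorem drop_identity [M.IsPrime] [Fintype (IrrCharacter G)] {u : G} {k : ℂ} (h : Drop M u k)
    (F : IrrCharacter G → ℂ) :
    k * (∑ χ ∈ mems M G, F χ - F (oneIrr G)) =
      ∑ χ ∈ mems M G, (χ : G → ℂ) 1 * F χ - ∑ χ ∈ mems M G, (χ : G → ℂ) u * F χ := by
  rw [← sum_erase_eq_sub one_mem_mems, ← sum_sub_distrib, mul_sum,
    ← add_sum_erase _ (fun χ : IrrCharacter G => (χ : G → ℂ) 1 * F χ - (χ : G → ℂ) u * F χ)
      one_mem_mems, oneIrr_apply, oneIrr_apply, sub_self, zero_add]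
  refine sum_congr rfl fun χ hχ => ?_
  obtain ⟨hne, hm⟩ := mem_erase.1 hχ
  rw [← h χ (mem_mems.1 hm) hne, sub_mul]

variable [M.IsPrime] [Fintype (IrrCharacter G)]

/-- Weak orthogonality with the degrees. -/
theorem sum_degree_mul (hM : IsPModular 2 M) {g : G} (hg : 2 ∣ orderOf g) :
    ∑ χ ∈ mems M G, (χ : G → ℂ) 1 * (χ : G → ℂ) g = 0 := by
  have h := weak_orth hM (isIntClass_blockCoeff (isPBlock_principalBlock (M := M) (G := G)))
    (g := (1 : G)) (h := g⁻¹) (by simp) (by rwa [orderOf_inv])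
  rw [← h]
  refine sum_congr rfl fun χ _ => ?_
  rw [conj_irr, inv_inv]

/-- Orthogonality between a 2-element and an element of another section. -/
theorem sum_section_mul (hM : IsPModular 2 M) {y u t v : G} {a b : ℕ} (hy : orderOf y = 2 ^ a)
    (ht : orderOf t = 2 ^ b) (huv : t * v = u) (hc : Commute t v) (hv : ¬ 2 ∣ orderOf v)
    (hne : ∀ g : G, g * y * g⁻¹ ≠ t⁻¹) :
    ∑ χ ∈ mems M G, (χ : G → ℂ) u * (χ : G → ℂ) y = 0 := by
  haveI : Fact (Nat.Prime 2) := ⟨Nat.prime_two⟩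
  refine (sum_congr rfl fun χ _ => mul_comm _ _).trans
    (sum_principal_eq_zero hM hy (fun χ => (χ : G → ℂ) u) fun s hys hs =>
      sum_irr_mul_eq_zero fun hcj => ?_)
  obtain ⟨g, hg⟩ := isConj_iff.1 hcj
  apply hne g
  have hpart : IsPPart 2 u⁻¹ (g * y * g⁻¹) :=
    ⟨g * s * g⁻¹, by rw [← hg]; group, (Commute.conj_iff g).2 hys,
      ⟨a, by rw [show g * y * g⁻¹ = MulAut.conj g y from rfl, MulEquiv.orderOf_eq, hy]⟩,
      by rw [show g * s * g⁻¹ = MulAut.conj g s from rfl, MulEquiv.orderOf_eq]; exact hs⟩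
  exact pPart_unique Nat.prime_two hpart (x' := t⁻¹) (y' := v⁻¹)
    (by rw [← huv, hc.eq, mul_inv_rev]) hc.inv_inv (n := b)
    (by rw [inv_pow, ← ht, pow_orderOf_eq_one, inv_one]) hv
    (by rw [inv_pow, pow_orderOf_eq_one, inv_one])

/-- Every member of the block is congruent at a 2-element to its degree. -/
theorem sum_cong (hM : IsPModular 2 M) {y : G} {a : ℕ} (hy : orderOf y = 2 ^ a) :
    MemLocalIdeal M (∑ χ ∈ mems M G, (χ : G → ℂ) y - ∑ χ ∈ mems M G, (χ : G → ℂ) 1) := by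
  rw [← sum_sub_distrib]
  refine memLocalIdeal_sum fun χ _ => ?_
  have h := char_cong_pow hM (isCharacter_irr χ) (g := y) (a := a) (k := 0)
    (by rw [zero_mul, pow_zero, ← hy, pow_orderOf_eq_one])
  rwa [pow_zero] at h

/-- The degree square sum is a multiple of the Sylow order. -/
theorem exists_sum_sq_eq (hM : IsPModular 2 M) (S : Sylow 2 G) :
    ∃ n : ℕ, ∑ χ ∈ mems M G, (χ : G → ℂ) 1 * (χ : G → ℂ) 1 = ((Nat.card S * n : ℕ) : ℂ) := by
  haveI : Fact (Nat.Prime 2) := ⟨Nat.prime_two⟩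
  haveI : Fintype (S : Subgroup G) := Fintype.ofFinite _
  have hn : ∀ χ : IrrCharacter G, ∃ n : ℕ, classInner (fun x : (S : Subgroup G) => (χ : G → ℂ) x)
      (fun _ : (S : Subgroup G) => (1 : ℂ)) = n := fun χ =>
    IsCharacter.exists_classInner_eq_natCast'
      (IsCharacter.restrict (isCharacter_irr χ) (S : Subgroup G))
      (CfsgLib.Char.isCharacter_one (G := (S : Subgroup G)))
  choose m hm using hn
  refine ⟨∑ χ ∈ mems M G, charDegree (χ : G → ℂ) * m χ, ?_⟩
  push_cast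
  rw [mul_sum]
  have hsum : ∀ x : (S : Subgroup G), x ≠ 1 →
      ∑ χ ∈ mems M G, (χ : G → ℂ) 1 * (χ : G → ℂ) x = 0 := fun x hx => by
    refine sum_degree_mul hM ?_
    obtain ⟨j, hj⟩ := IsPGroup.iff_orderOf.1 S.2 x
    rw [Subgroup.orderOf_coe, hj]
    refine dvd_pow_self 2 fun h0 => hx (orderOf_eq_one_iff.1 ?_)
    rw [hj, h0, pow_zero]
  have h1 : ∑ x : (S : Subgroup G), ∑ χ ∈ mems M G, (χ : G → ℂ) 1 * (χ : G → ℂ) x =
      ∑ χ ∈ mems M G, (χ : G → ℂ) 1 * (χ : G → ℂ) 1 := by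
    rw [sum_eq_single 1 (fun x _ hx => hsum x hx) (fun h => absurd (mem_univ _) h)]
    simp
  rw [← h1, sum_comm]
  refine sum_congr rfl fun χ _ => ?_
  rw [← mul_sum, ← (irr_one χ).1, mul_left_comm]
  congr 1
  have h := hm χ
  rw [classInner] at h
  simp only [map_one, mul_one] at h
  rw [← h, mul_inv_cancel_left₀ (Nat.cast_ne_zero.2 Nat.card_pos.ne')]

/-- The regular part of the principal character of a group, integrally scaled. -/
theorem exists_int_reg_one {C : Type u} [Group C] [Fintype C] (ψ : IrrCharacter C) :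
    ∃ z : ℤ, ((2 ^ (Nat.card C).factorization 2 : ℕ) : ℂ) *
      ((Nat.card C : ℂ)⁻¹ * ∑ y : C, regPart 2 (fun _ => (1 : ℂ)) y * conj ((ψ : C → ℂ) y)) = z := by
  obtain ⟨z, hz⟩ := exists_int_regPart Nat.prime_two (oneIrr C) ψ
  refine ⟨z, ?_⟩
  rw [show charDegree ((oneIrr C : IrrCharacter C) : C → ℂ) = 1 by
    simp [charDegree], Nat.factorization_one, Finsupp.coe_zero, Pi.zero_apply,
    Nat.sub_zero, oneIrr_coe] at hz
  exact hz

/-- The regular elements of a centralizer: `k` divides the 2-part of its order. -/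
theorem drop_mul_int (hM : IsPModular 2 M) {u t v : G} {k : ℂ} (h : Drop M u k)
    (ht : orderOf t = 2) (huv : t * v = u) (hc : Commute t v) (hv : ¬ 2 ∣ orderOf v) :
    ∃ z : ℤ, k * z =
      ((2 ^ (Nat.card (Subgroup.centralizer ({t} : Set G))).factorization 2 : ℕ) : ℂ) := by
  haveI : Fact (Nat.Prime 2) := ⟨Nat.prime_two⟩
  set C := Subgroup.centralizer ({t} : Set G) with hC
  haveI : Fintype C := Fintype.ofFinite _
  letI := irrFintype (G := C)
  have ht' : orderOf t = 2 ^ 1 := by rw [ht, pow_one]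
  let v' : C := ⟨v, Subgroup.mem_centralizer_singleton_iff.2 hc.symm.eq⟩
  have hv' : ¬ 2 ∣ orderOf v' := by rwa [Subgroup.orderOf_mk]
  -- the function on the section
  let f : C → ℂ := fun y => ∑ χ ∈ mems M G, conj ((χ : G → ℂ) (t * (y : G))) - 1
  have hf : ∀ y : C, ¬ 2 ∣ orderOf y → k * f y =
      -∑ ψ ∈ univ.filter (· ∈ principalBlock M C), (ψ : C → ℂ) v' * conj ((ψ : C → ℂ) y) := by
    intro y hy
    have hyt : Commute t (y : G) := (Subgroup.mem_centralizer_singleton_iff.1 y.2).symm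
    have hsing : 2 ∣ orderOf (t * (y : G)) := by
      rw [hyt.orderOf_mul_eq_mul_orderOf_of_coprime
        (by rw [ht, Subgroup.orderOf_coe]; exact Nat.prime_two.coprime_iff_not_dvd.2 hy), ht]
      exact dvd_mul_right 2 _
    have h1 : ∑ χ ∈ mems M G, (χ : G → ℂ) 1 * conj ((χ : G → ℂ) (t * (y : G))) = 0 := by
      simp only [conj_irr]
      exact sum_degree_mul hM (by rwa [orderOf_inv])
    have e := drop_identity h (fun χ => conj ((χ : G → ℂ) (t * (y : G))))
    simp only [oneIrr_apply, map_one] at e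
    rw [e, h1, zero_sub, ← principal_section_kernel hM ht' v' y hv' hy, ← huv]
    rfl
  -- the sum of the kernel over the regular elements
  have hker : (Nat.card C : ℂ)⁻¹ * ∑ y : C, regPart 2 (fun _ => (1 : ℂ)) y *
      (∑ ψ ∈ univ.filter (· ∈ principalBlock M C), (ψ : C → ℂ) v' * conj ((ψ : C → ℂ) y)) = 1 := by
    have h1 := congrFun (blockPart_regPart hM (isPBlock_principalBlock (M := M) (G := C))
      ((oneIrr C : IrrCharacter C) : C → ℂ)) v'
    rw [blockPart_irr, if_pos oneIrr_mem_principalBlock, regPart_of_not_dvd hv', oneIrr_apply,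
      blockPart_eq_sum_inner] at h1
    refine Eq.trans ?_ h1
    simp only [classInner, mul_sum, sum_mul, oneIrr_coe]
    rw [sum_comm]
    exact sum_congr rfl fun ψ _ => sum_congr rfl fun y _ => by ring
  -- integrality
  have hω : ∀ ψ : IrrCharacter C, ∀ y : C,
      (ψ : C → ℂ) (⟨t, Subgroup.mem_centralizer_singleton_iff.2 rfl⟩ * y) =
        (ψ : C → ℂ) ⟨t, Subgroup.mem_centralizer_singleton_iff.2 rfl⟩ / (ψ : C → ℂ) 1 *
          (ψ : C → ℂ) y := fun ψ y =>
    IsIrrCharacter.apply_center_mul ψ.2 (Subgroup.mem_center_iff.2 fun g => Subtype.ext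
      (Subgroup.mem_centralizer_singleton_iff.1 g.2)) y
  set tC : C := ⟨t, Subgroup.mem_centralizer_singleton_iff.2 rfl⟩
  have htC : tC * tC = 1 := Subtype.ext (by
    rw [Subgroup.coe_mul, Subgroup.coe_one, ← sq, ← ht]; exact pow_orderOf_eq_one t)
  have hsign : ∀ ψ : IrrCharacter C, ∃ e : ℤ, (ψ : C → ℂ) tC / (ψ : C → ℂ) 1 = e := by
    intro ψ
    have e1 := hω ψ tC
    rw [htC] at e1
    have h1 := irr_one_ne_zero ψ
    have e2 : ((ψ : C → ℂ) tC / (ψ : C → ℂ) 1) ^ 2 = 1 := by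
      field_simp
      field_simp at e1
      linear_combination -e1
    rcases sq_eq_one_iff.1 e2 with h | h
    · exact ⟨1, by rw [h, Int.cast_one]⟩
    · exact ⟨-1, by rw [h, Int.cast_neg, Int.cast_one]⟩
  choose e he using hsign
  have hm' : ∀ (χ : IrrCharacter G) (ψ : IrrCharacter C), ∃ n : ℕ,
      classInner (fun y : C => (χ : G → ℂ) y) (ψ : C → ℂ) = n := fun χ ψ =>
    IsCharacter.exists_classInner_eq_natCast' (IsCharacter.restrict (isCharacter_irr χ) C)
      (isCharacter_irr ψ)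
  choose m hm using hm'
  choose z hz using fun ψ : IrrCharacter C => exists_int_reg_one ψ
  have hexp : ∀ (χ : IrrCharacter G) (y : C), (χ : G → ℂ) (t * (y : G)) =
      ∑ ψ : IrrCharacter C, ((m χ ψ : ℕ) : ℂ) * (e ψ : ℂ) * (ψ : C → ℂ) y := fun χ y => by
    have hcl : IsClassFunction C (fun y : C => (χ : G → ℂ) y) := fun a b =>
      isClassFunction_irr χ (a : G) (b : G)
    rw [show t * (y : G) = ((tC * y : C) : G) from rfl]
    rw [classFun_expand hcl (tC * y)]
    exact sum_congr rfl fun ψ _ => by rw [hω, he, hm, mul_assoc]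
  refine ⟨-(∑ χ ∈ mems M G, ∑ ψ : IrrCharacter C, (m χ ψ : ℤ) * e ψ * z ψ - z (oneIrr C)), ?_⟩
  set q : ℂ := ((2 ^ (Nat.card C).factorization 2 : ℕ) : ℂ)
  have hA : q * ((Nat.card C : ℂ)⁻¹ * ∑ y : C, regPart 2 (fun _ => (1 : ℂ)) y * f y) =
      ∑ χ ∈ mems M G, ∑ ψ : IrrCharacter C, ((m χ ψ : ℕ) : ℂ) * (e ψ : ℂ) * (z ψ : ℂ) -
        (z (oneIrr C) : ℂ) := by
    have hf' : ∀ y : C, f y = ∑ χ ∈ mems M G, ∑ ψ : IrrCharacter C,
        ((m χ ψ : ℕ) : ℂ) * (e ψ : ℂ) * conj ((ψ : C → ℂ) y) -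
          conj (((oneIrr C : IrrCharacter C) : C → ℂ) y) := fun y => by
      simp only [f, hexp, map_sum, map_mul, map_natCast, map_intCast, oneIrr_apply, map_one]
    simp only [hf', ← hz, mul_sub, mul_sum, sum_sub_distrib]
    congr 1
    rw [sum_comm]
    refine sum_congr rfl fun χ _ => ?_
    rw [sum_comm]
    exact sum_congr rfl fun ψ _ => sum_congr rfl fun y _ => by ring
  have hB : k * ((Nat.card C : ℂ)⁻¹ * ∑ y : C, regPart 2 (fun _ => (1 : ℂ)) y * f y) = -1 := by
    refine Eq.trans ?_ (congrArg (fun w : ℂ => -w) hker)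
    rw [← mul_neg, ← sum_neg_distrib, mul_left_comm, mul_sum]
    congr 1
    refine sum_congr rfl fun y _ => ?_
    by_cases hy : 2 ∣ orderOf y
    · simp [regPart_of_dvd hy]
    · simp only [regPart_of_not_dvd hy, one_mul]
      exact hf y hy
  push_cast
  rw [← hA]
  linear_combination (-q) * hB

/-- The global consequences. -/
theorem global (hM : IsPModular 2 M) (S : Sylow 2 G) (hS : Nat.card S ≠ 1) {u : G} {k : ℂ}
    (h : Drop M u k) (hk : k ≠ 0) :
    k = (Nat.card S : ℂ) ∧ (∀ y : G, (∃ a : ℕ, orderOf y = 2 ^ a) → y * y = 1) ∧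
      (∀ x y : G, orderOf x = 2 → orderOf y = 2 → IsConj x y) ∧
      ∃ t v : G, t * v = u ∧ Commute t v ∧ orderOf t = 2 ∧ ¬ 2 ∣ orderOf v := by
  haveI : Fact (Nat.Prime 2) := ⟨Nat.prime_two⟩
  obtain ⟨c, hc⟩ := IsPGroup.iff_card.1 S.2
  have hc0 : c ≠ 0 := fun h0 => hS (by rw [hc, h0, pow_zero])
  obtain ⟨n, hn⟩ := exists_sum_sq_eq (M := M) hM S
  set D : ℕ := ∑ χ ∈ mems M G, charDegree (χ : G → ℂ) with hD
  have hD1 : (D : ℂ) = ∑ χ ∈ mems M G, (χ : G → ℂ) 1 := by
    rw [hD, Nat.cast_sum]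
    exact sum_congr rfl fun χ _ => (irr_one χ).1.symm
  have hDpos : 1 ≤ D := le_trans (irr_one (oneIrr G)).2
    (single_le_sum (f := fun χ : IrrCharacter G => charDegree (χ : G → ℂ))
      (fun _ _ => Nat.zero_le _) one_mem_mems)
  -- the degree sum is even
  have hDeven : 2 ∣ D := by
    have hN : ∑ χ ∈ mems M G, charDegree (χ : G → ℂ) * charDegree (χ : G → ℂ) =
        Nat.card S * n := by
      have : ((∑ χ ∈ mems M G, charDegree (χ : G → ℂ) * charDegree (χ : G → ℂ) : ℕ) : ℂ) =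
          ((Nat.card S * n : ℕ) : ℂ) := by
        rw [← hn, Nat.cast_sum]
        exact sum_congr rfl fun χ _ => by rw [Nat.cast_mul, (irr_one χ).1]
      exact_mod_cast this
    have h2 : 2 ∣ ∑ χ ∈ mems M G, charDegree (χ : G → ℂ) * charDegree (χ : G → ℂ) := by
      rw [hN, hc]; exact Dvd.dvd.mul_right (dvd_pow_self 2 hc0) _
    rw [← ZMod.natCast_eq_zero_iff] at h2 ⊢
    rw [Nat.cast_sum] at h2
    rw [hD, Nat.cast_sum]
    refine Eq.trans (sum_congr rfl fun χ _ => ?_) h2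
    generalize (charDegree (χ : G → ℂ) : ℕ) = d
    rw [Nat.cast_mul]
    generalize (d : ZMod 2) = x
    rw [← sq]; exact (ZMod.pow_card x).symm
  have hT : ¬ 2 ∣ D - 1 := by omega
  -- the parts of `u`
  obtain ⟨t, v, huv, htv, -, -, htne, hv, ⟨b, hb⟩, -, -⟩ := exists_pPart Nat.prime_two u
  -- every nontrivial 2-element is conjugate to `t⁻¹`
  have key : ∀ (y : G) (a : ℕ), orderOf y = 2 ^ a → y ≠ 1 → ∃ g : G, g * y * g⁻¹ = t⁻¹ := by
    intro y a hy hy1
    by_contra hne
    push Not at hne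
    have hsing : 2 ∣ orderOf y := by
      rw [hy]
      exact dvd_pow_self 2 fun h0 => hy1 (orderOf_eq_one_iff.1 (by rw [hy, h0, pow_zero]))
    have e := drop_identity h (fun χ => (χ : G → ℂ) y)
    simp only [oneIrr_apply] at e
    rw [sum_degree_mul hM hsing, sum_section_mul hM hy hb huv htv hv hne, sub_zero,
      mul_eq_zero] at e
    have h2 := sum_cong (M := M) hM hy
    rw [sub_eq_zero.1 (e.resolve_left hk), ← hD1, show (1 : ℂ) - (D : ℂ) = -((D - 1 : ℕ) : ℂ) by
      rw [Nat.cast_sub hDpos]; push_cast; ring] at h2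
    have h3 := memLocalIdeal_neg h2
    rw [neg_neg] at h3
    exact hT ((memLocalIdeal_natCast_iff hM).1 h3)
  obtain ⟨⟨x, hx⟩, hxo⟩ := exists_prime_orderOf_dvd_card' (G := (S : Subgroup G)) 2
    (by rw [hc]; exact dvd_pow_self 2 hc0)
  rw [Subgroup.orderOf_mk] at hxo
  obtain ⟨g, hg⟩ := key x 1 (by rw [hxo, pow_one]) fun h1 => by
    rw [h1, orderOf_one] at hxo; omega
  have ht2 : orderOf t = 2 := by
    rw [← orderOf_inv t, ← hg, show g * x * g⁻¹ = MulAut.conj g x from rfl, MulEquiv.orderOf_eq,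
      hxo]
  have hall : ∀ (y : G) (a : ℕ), orderOf y = 2 ^ a → y ≠ 1 → orderOf y = 2 := fun y a hy hy1 => by
    obtain ⟨g', hg'⟩ := key y a hy hy1
    rw [← ht2, ← orderOf_inv t, ← hg', show g' * y * g'⁻¹ = MulAut.conj g' y from rfl,
      MulEquiv.orderOf_eq]
  refine ⟨?_, fun y hy => ?_, fun x y hx hy => ?_, t, v, huv, htv, ht2, hv⟩
  rotate_left
  · obtain ⟨a, ha⟩ := hy
    by_cases hy1 : y = 1
    · rw [hy1, one_mul]
    · rw [← sq, ← hall y a ha hy1, pow_orderOf_eq_one]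
  · obtain ⟨g₁, hg₁⟩ := key x 1 (by rw [hx, pow_one]) fun h1 => by rw [h1, orderOf_one] at hx; omega
    obtain ⟨g₂, hg₂⟩ := key y 1 (by rw [hy, pow_one]) fun h1 => by rw [h1, orderOf_one] at hy; omega
    exact (isConj_iff.2 ⟨g₁, hg₁⟩).trans (isConj_iff.2 ⟨g₂, hg₂⟩).symm
  -- the value of `k`
  have hsingu : 2 ∣ orderOf u := by
    rw [← huv, htv.orderOf_mul_eq_mul_orderOf_of_coprime
      (by rw [ht2]; exact Nat.prime_two.coprime_iff_not_dvd.2 hv), ht2]
    exact dvd_mul_right 2 _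
  have e := drop_identity h (fun χ => (χ : G → ℂ) 1)
  simp only [oneIrr_apply] at e
  rw [(sum_congr rfl fun χ _ => mul_comm _ _).trans (sum_degree_mul (M := M) hM hsingu), sub_zero,
    hn, ← hD1, show (D : ℂ) - 1 = ((D - 1 : ℕ) : ℂ) by rw [Nat.cast_sub hDpos]; simp] at e
  have hT0 : ((D - 1 : ℕ) : ℂ) ≠ 0 := Nat.cast_ne_zero.2 (by omega)
  -- `k` is integral
  obtain ⟨χ₀, hχ₀, hne₀⟩ : ∃ χ ∈ mems M G, χ ≠ oneIrr G := by
    by_contra hall'
    push Not at hall'
    have : mems M G = {oneIrr G} := eq_singleton_iff_unique_mem.2 ⟨one_mem_mems, hall'⟩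
    have h1 : D = 1 := by
      rw [hD, this, sum_singleton]
      simp [charDegree]
    omega
  have hkint : IsIntegral ℤ k := by
    rw [← h χ₀ (mem_mems.1 hχ₀) hne₀]
    exact (IsCharacter.isIntegral (isCharacter_irr χ₀) 1).sub
      (IsCharacter.isIntegral (isCharacter_irr χ₀) u)
  set q : ℚ := ((Nat.card S * n : ℕ) : ℚ) / ((D - 1 : ℕ) : ℚ) with hq
  have hkq : k = (q : ℂ) := by
    rw [hq, Rat.cast_div, Rat.cast_natCast, Rat.cast_natCast, eq_div_iff hT0, e]
  obtain ⟨j, hj⟩ := exists_int_of_isIntegral_ratCast (hkq ▸ hkint)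
  have hkj : k = (j : ℂ) := by rw [hkq, hj]
  obtain ⟨z, hz⟩ := drop_mul_int hM h ht2 huv htv hv
  rw [hkj] at e hz ⊢
  have e' : j * ((D - 1 : ℕ) : ℤ) = (2 : ℤ) ^ c * (n : ℤ) := by
    have h' : j * ((D - 1 : ℕ) : ℤ) = ((Nat.card S * n : ℕ) : ℤ) := by exact_mod_cast e
    rw [h', hc]; push_cast; ring
  have hjpos : 0 ≤ j := by
    refine nonneg_of_mul_nonneg_left (a := j) (b := ((D - 1 : ℕ) : ℤ)) ?_ (by omega)
    rw [e']; positivity
  have hd1 : (2 : ℤ) ^ c ∣ j := by
    refine IsCoprime.dvd_of_dvd_mul_right (IsCoprime.pow_left ?_) ⟨(n : ℤ), e'⟩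
    rw [Int.prime_two.coprime_iff_not_dvd]
    exact fun hd => hT (by exact_mod_cast hd)
  have hd2 : j ∣ (2 : ℤ) ^ c := by
    have h' : j * z = ((2 ^ (Nat.card (Subgroup.centralizer ({t} : Set G))).factorization 2 : ℕ) : ℤ) := by
      exact_mod_cast hz
    refine Dvd.dvd.trans ⟨z, h'.symm⟩ ?_
    push_cast
    refine pow_dvd_pow 2 ?_
    have hle := (Nat.factorization_le_iff_dvd Nat.card_pos.ne' Nat.card_pos.ne').2
      (Subgroup.card_subgroup_dvd_card (Subgroup.centralizer ({t} : Set G))) 2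
    have hcG : (Nat.card G).factorization 2 = c := by
      have := S.card_eq_multiplicity
      rw [hc] at this
      exact Nat.pow_right_injective le_rfl this.symm
    omega
  rw [Int.dvd_antisymm hjpos (by positivity) hd2 hd1, hc]
  push_cast
  rfl

end CfsgLib.ConstDrop
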