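import Cfsg.Agent.Recog.OddTransitive.Main

/-!
# Fixed spaces in an odd order group transitive on the nonzero vectors

If a subgroup `A` fixes a nonzero subspace of index `2 ^ n` pointwise and has at least
`2 ^ n - 1` elements, then the space has order 8: conjugates of a generator of the Fitting
subgroup give a Vandermonde injection.
-/

set_option autoImplicit false
set_option linter.unusedSectionVars false
set_option linter.style.haveILetI false

namespace CfsgLib.ConstDrop

open Cfsg

universe u v

variable {D : Type u} [Group D] {E : Type v} [AddCommGroup E] [DistribMulAction D E]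

/-- The value at `f` of the polynomial with coefficients `y`, in Horner form. -/
def horner (f : D) : ℕ → (ℕ → E) → E
  | 0, _ => 0
  | m + 1, y => y 0 + f • horner f m fun i => y (i + 1)

theorem horner_zero (f : D) : ∀ (m : ℕ) (y : ℕ → E), (∀ i < m, y i = 0) → horner f m y = 0
  | 0, _, _ => rfl
  | m + 1, y, h => by
    rw [horner, h 0 (Nat.succ_pos m), horner_zero f m _ fun i hi => h (i + 1) (by omega), smul_zero,
      add_zero]

/-- Division by `X - g`. -/
theorem horner_divide (g : D) : ∀ (m : ℕ) (y : ℕ → E),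
    ∃ w : ℕ → E, (∀ f : D, Commute f g →
        horner f (m + 1) y - horner g (m + 1) y = f • horner f m w - g • horner f m w) ∧
      ((∀ i < m, w i = 0) → ∀ i, i < m → y (i + 1) = 0)
  | 0, y => ⟨fun _ => 0, fun f _ => by simp [horner], fun _ i hi => absurd hi (by omega)⟩
  | m + 1, y => by
    obtain ⟨w', hw', hz'⟩ := horner_divide g m fun i => y (i + 1)
    refine ⟨fun i => Nat.casesOn i (horner g (m + 1) fun j => y (j + 1)) w', fun f hc => ?_,
      fun h i hi => ?_⟩
    · have e := hw' f hc
      have hf : horner f (m + 1) (fun i => y (i + 1)) =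
          horner g (m + 1) (fun i => y (i + 1)) + (f • horner f m w' - g • horner f m w') := by
        rw [← e]; abel
      show (y 0 + f • horner f (m + 1) fun i => y (i + 1)) -
          (y 0 + g • horner g (m + 1) fun i => y (i + 1)) =
        f • ((horner g (m + 1) fun i => y (i + 1)) + f • horner f m w') -
          g • ((horner g (m + 1) fun i => y (i + 1)) + f • horner f m w')
      rw [hf]
      simp only [smul_add, smul_sub]
      rw [← mul_smul g f, ← hc.eq, mul_smul]
      abel
    · have hw0 : ∀ j < m, w' j = 0 := fun j hj => h (j + 1) (by omega)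
      rcases i with _ | i
      · have h0 : horner g (m + 1) (fun j => y (j + 1)) = 0 := h 0 (by omega)
        rw [horner, horner_zero g m _ (hz' hw0), smul_zero, add_zero] at h0
        exact h0
      · exact hz' hw0 i (by omega)

/-- A polynomial with more roots than its degree vanishes. -/
theorem horner_eq_zero : ∀ (m : ℕ) (fs : ℕ → D),
    (∀ i < m, ∀ j < m, Commute (fs i) (fs j)) →
    (∀ i < m, ∀ j < m, i ≠ j → ∀ x : E, fs i • x = fs j • x → x = 0) →
    ∀ y : ℕ → E, (∀ a < m, horner (fs a) m y = 0) → ∀ i < m, y i = 0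
  | 0, _, _, _, _, _, i, hi => absurd hi (by omega)
  | m + 1, fs, hc, hinj, y, h, i, hi => by
    obtain ⟨w, hw, hz⟩ := horner_divide (fs m) m y
    have hw0 : ∀ j < m, w j = 0 := horner_eq_zero m fs
      (fun a ha b hb => hc a (by omega) b (by omega))
      (fun a ha b hb => hinj a (by omega) b (by omega)) w fun a ha => by
        have e := hw (fs a) (hc a (by omega) m (by omega))
        rw [h a (by omega), h m (by omega), sub_self] at e
        exact hinj a (by omega) m (by omega) (by omega) _ (sub_eq_zero.1 e.symm)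
    have htail := hz hw0
    rcases i with _ | i
    · have h0 := h m (by omega)
      rw [horner, horner_zero _ m _ htail, smul_zero, add_zero] at h0
      exact h0
    · exact htail i (by omega)

theorem smul_horner (a f : D) : ∀ (m : ℕ) (y : ℕ → E), (∀ i, a • y i = y i) →
    a • horner f m y = horner (a * f * a⁻¹) m y
  | 0, _, _ => smul_zero a
  | m + 1, y, h => by
    rw [horner, horner, smul_add, h 0, ← smul_horner a f m _ (fun i => h (i + 1)), mul_smul,
      mul_smul, inv_smul_smul]

variable [Finite D] [Finite E] [Nontrivial E] [FaithfulSMul D E]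

/-- The exceptional dimension. -/
theorem eq_eight (hodd : Odd (Nat.card D)) (h2 : ∀ e : E, 2 • e = 0)
    (htrans : ∀ a b : E, a ≠ 0 → b ≠ 0 → ∃ d : D, d • a = b)
    (A : Subgroup D) (Y : AddSubgroup E) (hY : Y ≠ ⊥) (hfix : ∀ a ∈ A, ∀ y ∈ Y, a • y = y)
    {n : ℕ} (hn : 2 ≤ n) (hcard : Nat.card E = Nat.card Y * 2 ^ n)
    (hA : 2 ^ n - 1 ≤ Nat.card A) : Nat.card E = 8 := by
  haveI : Fact (Nat.Prime 2) := ⟨Nat.prime_two⟩
  obtain ⟨hcyc, hfree, -⟩ := OddTransitive.fitting_structure hodd h2 htrans
  have hcent := OddTransitive.centralizer_fitting_le hodd h2 htrans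
  haveI := hcyc
  obtain ⟨⟨f, hf⟩, hgen⟩ := hcyc.exists_generator
  set F := Cfsg.fittingSubgroup D
  have hnF : F.Normal := by infer_instance
  obtain ⟨y₀, hy₀, hy₀0⟩ : ∃ y ∈ Y, y ≠ (0 : E) := by
    obtain ⟨⟨y, hy⟩, hne⟩ := AddSubgroup.ne_bot_iff_exists_ne_zero.1 hY
    exact ⟨y, hy, fun h => hne (Subtype.ext h)⟩
  let fs : A → D := fun a => (a : D) * f * (a : D)⁻¹
  have hmem : ∀ a, fs a ∈ F := fun a => hnF.conj_mem f hf a
  have hinjA : Function.Injective fs := by
    intro a b hab
    have hc : Commute ((b : D)⁻¹ * a) f := by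
      have := congrArg (fun w => (b : D)⁻¹ * w * (a : D)) hab
      simp only [fs, mul_assoc, inv_mul_cancel, inv_mul_cancel_left, mul_one] at this
      show (b : D)⁻¹ * a * f = f * ((b : D)⁻¹ * a)
      simpa only [mul_assoc] using this
    have hmF : (b : D)⁻¹ * a ∈ F := hcent (Subgroup.mem_centralizer_iff.2 fun x hx => by
      obtain ⟨j, hj⟩ := Subgroup.mem_zpowers_iff.1 (hgen ⟨x, hx⟩)
      rw [show x = f ^ j from (congrArg Subtype.val hj).symm]
      exact (hc.zpow_right j).symm.eq)
    have : (b : D)⁻¹ * a = 1 := by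
      by_contra hne
      exact hy₀0 (hfree _ hmF hne y₀ (hfix _ (A.mul_mem (A.inv_mem b.2) a.2) y₀ hy₀))
    exact Subtype.ext (inv_mul_eq_one.1 this).symm
  set r := Nat.card A with hr
  let ea : Fin r ≃ A := (Finite.equivFin A).symm
  let gs : ℕ → D := fun i => if h : i < r then fs (ea ⟨i, h⟩) else 1
  let ext : (Fin r → Y) → ℕ → E := fun y i => if h : i < r then (y ⟨i, h⟩ : E) else 0
  have hextfix : ∀ (a : A) (y : Fin r → Y) (i : ℕ), (a : D) • ext y i = ext y i := by
    intro a y i
    simp only [ext]
    split_ifs with h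
    · exact hfix _ a.2 _ (y _).2
    · exact smul_zero _
  have hinj : Function.Injective fun y : Fin r → Y => horner f r (ext y) := by
    intro y y' h
    have hlin : ∀ (g : D) (m : ℕ) (p q : ℕ → E),
        horner g m (fun i => p i - q i) = horner g m p - horner g m q := by
      intro g m
      induction m with
      | zero => intro p q; simp [horner]
      | succ m ih =>
        intro p q
        simp only [horner, ih, smul_sub]
        abel
    have key := horner_eq_zero r gs (fun i hi j hj => ?_) (fun i hi j hj hij x hx => ?_)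
      (fun i => ext y i - ext y' i) fun a ha => ?_
    · funext i
      have := sub_eq_zero.1 (key i i.2)
      simp only [ext, dif_pos i.2] at this
      exact Subtype.ext this
    · simp only [gs, dif_pos hi, dif_pos hj]
      exact congrArg Subtype.val (IsCyclic.commGroup.mul_comm
        (⟨_, hmem (ea ⟨i, hi⟩)⟩ : F) ⟨_, hmem (ea ⟨j, hj⟩)⟩)
    · simp only [gs, dif_pos hi, dif_pos hj] at hx
      by_contra hx0
      refine hx0 (hfree _ (F.mul_mem (F.inv_mem (hmem (ea ⟨j, hj⟩))) (hmem (ea ⟨i, hi⟩))) ?_ x ?_)
      · intro h1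
        exact hij (by simpa using ea.injective (hinjA (inv_mul_eq_one.1 h1).symm))
      · rw [mul_smul, hx, inv_smul_smul]
    · simp only [gs, dif_pos ha]
      rw [show fs (ea ⟨a, ha⟩) = ((ea ⟨a, ha⟩ : A) : D) * f * ((ea ⟨a, ha⟩ : A) : D)⁻¹ from rfl,
        hlin, ← smul_horner _ _ _ _ (hextfix _ y), ← smul_horner _ _ _ _ (hextfix _ y')]
      simp only at h
      rw [h, sub_self]
  have hle := Nat.card_le_card_of_injective _ hinj
  rw [Nat.card_fun, Nat.card_fin, hcard] at hle
  obtain ⟨d, hd⟩ := (IsPGroup.iff_card (p := 2) (G := Multiplicative Y)).1 fun g => ⟨1, by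
    rw [pow_one]
    exact Subtype.ext (h2 ((Multiplicative.toAdd g : Y) : E))⟩
  change Nat.card Y = 2 ^ d at hd
  have hd0 : d ≠ 0 := fun h0 => hY (AddSubgroup.eq_bot_of_card_eq Y (by rw [hd, h0, pow_zero]))
  rw [hd, ← pow_mul, ← pow_add] at hle
  have h1 : d * r ≤ d + n := (Nat.pow_le_pow_iff_right (by norm_num)).1 hle
  have hrn : r ≤ 1 + n := by
    by_contra hlt
    have := Nat.mul_le_mul_left d (show 2 + n ≤ r by omega)
    nlinarith [Nat.one_le_iff_ne_zero.2 hd0]
  have hn2 : n = 2 := by
    by_contra hne
    have h3 : ∀ k, 3 ≤ k → k + 2 < 2 ^ k := fun k hk => by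
      induction k, hk using Nat.le_induction with
      | base => norm_num
      | succ k _ ih => rw [pow_succ]; omega
    have := h3 n (by omega)
    omega
  subst hn2
  norm_num at hA
  have hd1 : d = 1 := by
    rcases Nat.lt_or_ge d 2 with h | h
    · omega
    · exfalso
      have := Nat.mul_le_mul_left d (show 3 ≤ r by omega)
      omega
  rw [hcard, hd, hd1]
  rfl

end CfsgLib.ConstDrop
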